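import Groth.Agent.Flat2C.TorAmpRestr
import Groth.Agent.PerfC.RingPerf

/-!
# Flat representatives of objects of `D(A)`: cokernels, bounded cohomology, perfectness

* `flat_cok_of_torAmp`: for `K` bounded above with flat terms and of tor amplitude in `[a, c]`, the module
  `K^a / im K^{a-1}` is flat.
* `exactAt_of_torAmp`: the cohomology of an object of tor amplitude in `[a, b]` vanishes outside `[a, b]`.
* `isPerfect_of_pc_of_torAmp`: pseudo-coherent and of finite tor amplitude implies perfect.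
-/

set_option autoImplicit false
universe u
open CategoryTheory CategoryTheory.Limits
attribute [local instance] HasDerivedCategory.standard

namespace K227.PerfFlat

open DRing Groth.Agent Groth.Agent.Flat2C Groth.Agent.Flat2C.TorAmpCone Groth.Agent.Flat2C.TorAmpRestr

variable {A : Type u} [CommRing A]

lemma flat_cok_of_isZero (E : Cx A) {h a : ℤ} (h0 : IsZero (E.X h)) (hf : Module.Flat A (E.X a)) :
    Module.Flat A (Cok E h a) := by
  have hs : Subsingleton (E.X h) := ModuleCat.subsingleton_of_isZero h0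
  have hr : LinearMap.range (E.d h a).hom = ⊥ := by
    rw [LinearMap.range_eq_bot]
    ext x
    rw [Subsingleton.elim x 0, map_zero, map_zero]
  exact Module.Flat.of_linearEquiv (Submodule.quotEquivOfEqBot _ hr)

lemma vanishesAbove_mono {K : Cx A} {b b' : ℤ} (h : b ≤ b') (hK : VanishesAbove K b) :
    VanishesAbove K b' := fun i hi => hK i (by omega)

/-- **Flatness of the cokernel.** -/
theorem flat_cok_of_torAmp (K : Cx A) (b : ℤ) (hb : VanishesAbove K b) (hK : TermwiseFlat K) {a c : ℤ}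
    (hT : HasTorAmplitudeIn A a c (toD K)) {h : ℤ} (hh : h + 1 = a) : Module.Flat A (Cok K h a) := by
  obtain ⟨E, hE, hE', ⟨e⟩⟩ := hT
  rw [flat_cok_iff_of_iso (max b c) K E (fun i hi => hb i (lt_of_le_of_lt (le_max_left _ _) hi))
    (fun i hi => hE i (Or.inr (lt_of_le_of_lt (le_max_right _ _) hi))) hK hE' e.symm hh]
  exact flat_cok_of_isZero E (hE h (Or.inl (by omega))) (hE' a)

lemma torAmp_of_iso {a b : ℤ} {K L : Dual.D A} (e : K ≅ L) (h : HasTorAmplitudeIn A a b K) :
    HasTorAmplitudeIn A a b L := by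
  obtain ⟨E, h1, h2, ⟨i⟩⟩ := h
  exact ⟨E, h1, h2, ⟨i ≪≫ e⟩⟩

lemma torAmp_shift {a b : ℤ} {K : Dual.D A} (n : ℤ) (h : HasTorAmplitudeIn A a b K) :
    HasTorAmplitudeIn A (a - n) (b - n) (K⟦n⟧) := by
  obtain ⟨E, h1, h2, ⟨i⟩⟩ := h
  exact ⟨E⟦n⟧, fun i hi => h1 (i + n) (by omega), fun i => h2 (i + n),
    ⟨(DerivedCategory.Q.commShiftIso n).app E ≪≫ (shiftFunctor (Dual.D A) n).mapIso i⟩⟩

lemma torAmp_mono {a b a' b' : ℤ} (ha : a' ≤ a) (hb : b ≤ b') {K : Dual.D A}
    (h : HasTorAmplitudeIn A a b K) : HasTorAmplitudeIn A a' b' K := by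
  obtain ⟨E, h1, h2, e⟩ := h
  exact ⟨E, fun i hi => h1 i (by omega), h2, e⟩

/-- The cohomology of an object of tor amplitude in `[a, b]` vanishes outside `[a, b]`. -/
theorem exactAt_of_torAmp (K : Cx A) {a b : ℤ} (h : HasTorAmplitudeIn A a b (toD K)) (i : ℤ)
    (hi : i < a ∨ b < i) : K.ExactAt i := by
  obtain ⟨E, h1, h2, ⟨e⟩⟩ := h
  exact exactAt_of_iso e.symm i (HomologicalComplex.ExactAt.of_isZero (h1 i hi))

/-- Truncation: tor amplitude of bounded above flat complexes. -/
theorem torAmp_of_flat_cok (P : Cx A) (a b h : ℤ) (hha : h + 1 = a)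
    (hP0 : ∀ i, b < i → IsZero (P.X i)) (hex : ∀ i, i < a → P.ExactAt i)
    (hPf : ∀ i, Module.Flat A (P.X i)) (hcok : Module.Flat A (Cok P h a)) :
    HasTorAmplitudeIn A a b (toD P) := by
  have hGE : P.IsGE a := by
    rw [CochainComplex.isGE_iff]
    exact hex
  have hcok' : Module.Flat A (P.opcycles a) := by
    obtain ⟨e1⟩ := Flat2C.TorAmpRestr.nonempty_opcycles_equiv P hha
    exact Module.Flat.of_linearEquiv e1
  refine ⟨P.truncGE a, ?_, ?_, ⟨(asIso (DerivedCategory.Q.map (P.πTruncGE a))).symm⟩⟩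
  · rintro i (hi | hi)
    · exact CochainComplex.isZero_of_isStrictlyGE _ a i hi
    · rcases lt_trichotomy i a with h | h | h
      · exact CochainComplex.isZero_of_isStrictlyGE _ a i h
      · subst h
        refine IsZero.of_iso ?_ (P.truncGEXIsoOpcycles i)
        exact IsZero.of_epi (P.pOpcycles i) (hP0 i hi)
      · exact IsZero.of_iso (hP0 i hi) (P.truncGEXIso a i h)
  · intro i
    rcases lt_trichotomy i a with h | h | h
    · have := ModuleCat.subsingleton_of_isZero
        (CochainComplex.isZero_of_isStrictlyGE (P.truncGE a) a i h)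
      infer_instance
    · subst h
      exact Module.Flat.of_linearEquiv (P.truncGEXIsoOpcycles i).toLinearEquiv
    · have := hPf i
      exact Module.Flat.of_linearEquiv (P.truncGEXIso a i h).toLinearEquiv

/-- A complex with vanishing cohomology above `b` is isomorphic in `D(A)` to a complex of projectives
vanishing above `b`. -/
theorem exists_projective_rep (K : Dual.D A) (b : ℤ) (hK : ∀ i, b < i → Subsingleton (Dual.HD A K i)) :
    ∃ P : Cx A, VanishesAbove P b ∧ (∀ i, Projective (P.X i)) ∧ Nonempty (toD P ≅ K) := by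
  let K₀ : Cx A := DerivedCategory.Q.objPreimage K
  let eK : toD K₀ ≅ K := DerivedCategory.Q.objObjPreimageIso K
  obtain ⟨P, p, hP0, hPp, hp⟩ := exists_projective_resolution K₀ b (fun i hi => by
    rw [HomologicalComplex.exactAt_iff_isZero_homology]
    have h1 : IsZero ((DerivedCategory.homologyFunctor (ModuleCat.{u} A) i).obj K) :=
      @ModuleCat.isZero_of_subsingleton A _ _ (hK i hi)
    exact h1.of_iso (((DerivedCategory.homologyFunctorFactors (ModuleCat.{u} A) i).app K₀).symm ≪≫
      (DerivedCategory.homologyFunctor (ModuleCat.{u} A) i).mapIso eK))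
  exact ⟨P, hP0, hPp, ⟨asIso (DerivedCategory.Q.map p) ≪≫ eK⟩⟩

lemma subsingleton_HD_of_torAmp {K : Dual.D A} {a b : ℤ} (h : HasTorAmplitudeIn A a b K) (i : ℤ)
    (hi : i < a ∨ b < i) : Subsingleton (Dual.HD A K i) := by
  obtain ⟨E, h1, h2, ⟨e⟩⟩ := h
  have h3 : IsZero (E.homology i) := by
    rw [← HomologicalComplex.exactAt_iff_isZero_homology]
    exact HomologicalComplex.ExactAt.of_isZero (h1 i hi)
  exact ModuleCat.subsingleton_of_isZero (h3.of_iso
    ((DerivedCategory.homologyFunctor (ModuleCat.{u} A) i).mapIso e.symm ≪≫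
      (DerivedCategory.homologyFunctorFactors (ModuleCat.{u} A) i).app E))

/-- An object of tor amplitude in `[a, b]` has a representative by projectives vanishing above `b`,
exact below `a` and with flat `P^a / im`. -/
theorem exists_rep_of_torAmp {K : Dual.D A} {a b : ℤ} (h : HasTorAmplitudeIn A a b K) {h' : ℤ}
    (hh : h' + 1 = a) : ∃ P : Cx A, VanishesAbove P b ∧ (∀ i, Projective (P.X i)) ∧ Nonempty (toD P ≅ K) ∧
      (∀ i, i < a → P.ExactAt i) ∧ Module.Flat A (Cok P h' a) := by
  obtain ⟨P, h1, h2, ⟨e⟩⟩ := exists_projective_rep K b fun i hi => subsingleton_HD_of_torAmp h i (Or.inr hi)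
  have h3 := torAmp_of_iso e.symm h
  exact ⟨P, h1, h2, ⟨e⟩, fun i hi => exactAt_of_torAmp P h3 i (Or.inl hi),
    flat_cok_of_torAmp P b h1 (fun i => flat_of_projective (h2 i)) h3 hh⟩

/-- A pseudo-coherent object of tor amplitude in `[a, b]` is perfect. -/
theorem isPerfect_of_pc_of_torAmp {K : Dual.D A} (hK : IsPseudoCoherent' A K) {a b : ℤ}
    (h : HasTorAmplitudeIn A a b K) : IsPerfect A K := by
  obtain ⟨F, c, h1, h2, ⟨e⟩⟩ := hK
  have h3 := torAmp_of_iso e.symm h
  have h4 : TermwiseFiniteProjective F := fun i => by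
    obtain ⟨h1, h2⟩ := h2 i
    exact ⟨h1, inferInstance⟩
  have h5 : Module.Flat A (Cok F (a - 1) a) := flat_cok_of_torAmp F c h1 (fun i => by
    have := (h2 i).2
    infer_instance) h3 (by omega)
  have h6 : Module.Flat A (F.opcycles a) := by
    obtain ⟨e1⟩ := Flat2C.TorAmpRestr.nonempty_opcycles_equiv F (show a - 1 + 1 = a by omega)
    exact Module.Flat.of_linearEquiv e1
  have h7 := PerfC.RingPerf.finitePresentation_opcycles F a h2
  refine PerfC.RingPerf.isPerfect_of_iso e (PerfC.RingPerf.isPerfect_of_opcycles F a c h1 h4 ?_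
    ⟨inferInstance, Module.Flat.projective_of_finitePresentation⟩)
  intro i hi
  rw [← HomologicalComplex.exactAt_iff_isZero_homology]
  exact exactAt_of_torAmp F h3 i (Or.inl hi)

theorem hasFiniteTorDimCx_of_isPerfect {K : Dual.D A} (h : IsPerfect A K) : HasFiniteTorDimCx A K := by
  obtain ⟨E, a, b, h1, h2, e⟩ := h
  exact ⟨a, b, E, h1, fun i => by
    have := (h2 i).2
    infer_instance, e⟩

theorem isPseudoCoherent'_of_isPerfect {K : Dual.D A} (h : IsPerfect A K) : IsPseudoCoherent' A K :=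
  (Groth.Agent.S2066.result K).1.1 fun m => PerfC.RingPerf.pc_of_isPerfect h m

theorem isPerfect_iff {K : Dual.D A} : IsPerfect A K ↔ IsPseudoCoherent' A K ∧ HasFiniteTorDimCx A K :=
  ⟨fun h => ⟨isPseudoCoherent'_of_isPerfect h, hasFiniteTorDimCx_of_isPerfect h⟩,
    fun ⟨h1, _, _, h2⟩ => isPerfect_of_pc_of_torAmp h1 h2⟩

end K227.PerfFlat
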