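import Groth.Agent.DRing.K227.LbcFlat
import Groth.Agent.DRing.K227.PerfFlat

/-!
# Flat base change of modules and of complexes, tor amplitude and perfectness

* `inDIso φ hφ M : LBaseChange φ (M[0]) ≅ (B ⊗_A M)[0]` for `A → B` flat.
* `lbcToD`: `LBaseChange φ (Q K) ≅ Q (K ⊗ B)` for every complex `K` and flat `φ`.
* `torAmp_lbc`: derived base change preserves tor amplitude.
-/

set_option autoImplicit false

universe u

open CategoryTheory CategoryTheory.Limits TensorProduct

attribute [local instance] HasDerivedCategory.standard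

namespace K227.FlatBC

open DerivedCategory Groth.Agent.LoccohB Groth.Agent.LoccohB.BCUnit Groth.Agent

section General

variable {A B : Type u} [CommRing A] [CommRing B] (φ : A →+* B)

lemma flat_ext (M : ModuleCat.{u} A) (h : Module.Flat A M) :
    Module.Flat B ((ModuleCat.extendScalars.{u, u, u} φ).obj M) := by
  let _ := φ.toAlgebra
  exact inferInstanceAs (Module.Flat B (TensorProduct A B M))

theorem torAmp_ext (E : DRing.Cx A) {a b : ℤ} (h1 : DRing.VanishesOutside E a b)
    (h2 : DRing.TermwiseFlat E) : DRing.HasTorAmplitudeIn B a b (DRing.toD ((extCx φ).obj E)) :=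
  ⟨_, fun i hi => (ModuleCat.extendScalars.{u, u, u} φ).map_isZero (h1 i hi), fun i => flat_ext φ _ (h2 i),
    ⟨Iso.refl _⟩⟩

/-- Derived base change preserves tor amplitude. -/
theorem torAmp_lbc [DRing.HasLBaseChange φ] (K : Dual.D A) (a b : ℤ)
    (hK : DRing.HasTorAmplitudeIn A a b K) :
    DRing.HasTorAmplitudeIn B a b ((DRing.LBaseChange φ).obj K) := by
  obtain ⟨E, h1, h2, ⟨e⟩⟩ := hK
  obtain ⟨e'⟩ := LbcFlat.nonempty_lbc_iso φ E b (fun i hi => h1 i (Or.inr hi)) h2
  exact PerfFlat.torAmp_of_iso (e'.symm ≪≫ (DRing.LBaseChange φ).mapIso e) (torAmp_ext φ E h1 h2)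

/-- Flat base change of complexes. -/
noncomputable def lbcToD [DRing.HasLBaseChange φ] (hφ : φ.Flat) (K : DRing.Cx A) :
    (DRing.LBaseChange φ).obj (DRing.toD K) ≅ DRing.toD ((extCx φ).obj K) :=
  haveI := ModuleCat.preservesFiniteLimits_extendScalars_of_flat hφ
  (FlatLBC.LBaseChangeIso φ hφ).app _ ≪≫
    (ModuleCat.extendScalars.{u, u, u} φ).mapDerivedCategoryFactors.app K

end General

section Algebra

variable {A B : Type u} [CommRing A] [CommRing B] [Algebra A B]

/-- Flat base change of modules. -/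
noncomputable def inDIso [DRing.HasLBaseChange (algebraMap A B)] (h : (algebraMap A B).Flat)
    (M : Type u) [AddCommGroup M] [Module A M] :
    (DRing.LBaseChange (algebraMap A B)).obj (Dual.inD A M) ≅ Dual.inD B (B ⊗[A] M) :=
  (FlatLBC.LBaseChangeIso (algebraMap A B) h).app _ ≪≫
    (FlatLBC.flatBCSingle (algebraMap A B) h 0).app (ModuleCat.of A M) ≪≫
    (singleFunctor (ModuleCat.{u} B) 0).mapIso (FlatLBC.extEquiv A B (ModuleCat.of A M)).symm.toModuleIso

end Algebra

end K227.FlatBC
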