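import Groth.Agent.DRing.K227.PerfFlat
import Groth.Agent.Flat2H.PCModule
import Mathlib.Algebra.Homology.Embedding.Restriction
import Mathlib.Algebra.Homology.Embedding.Basic

/-!
# Perfect modules and finite projective resolutions

* `exists_projRes`: a complex of projective modules in degrees `≤ 0`, exact in degrees `< 0`, gives a projective
  resolution of `H^0`.
* `isPerfectModule_iff`: a module is perfect iff it has a finite resolution by finite projective modules.
-/

set_option autoImplicit false
universe u
open CategoryTheory CategoryTheory.Limits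
attribute [local instance] HasDerivedCategory.standard

namespace K227.PerfModule

open DRing Groth.Agent Groth.Agent.Flat2C Groth.Agent.Flat2H

variable {R : Type u} [CommRing R]

/-- The restriction of a complex to degrees `≤ 0`, as a chain complex. -/
noncomputable abbrev rst (K : Cx R) : ChainComplex (ModuleCat.{u} R) ℕ :=
  K.restriction ComplexShape.embeddingDownNat

set_option backward.defeqAttrib.useBackward true in
set_option backward.isDefEq.respectTransparency false in
/-- A complex of projective modules in degrees `≤ 0`, exact in degrees `< 0`, gives a projective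
  resolution of `H^0`. -/
theorem exists_projRes (K : Cx R) (h1 : VanishesAbove K 0) (hp : ∀ n, Projective (K.X n))
    (h0 : ∀ n : ℤ, n < 0 → K.ExactAt n) {M : ModuleCat.{u} R} (e : K.homology 0 ≅ M) :
    ∃ P : ProjectiveResolution M, P.complex = rst K := by
  have hz : ComplexShape.embeddingDownNat.f 0 = 0 := by simp
  have h1' : IsZero (K.X 1) := h1 1 (by omega)
  have hd : K.d (ComplexShape.embeddingDownNat.f 0) 1 = 0 := h1'.eq_of_tgt _ _
  let e' : K.opcycles (ComplexShape.embeddingDownNat.f 0) ≅ M :=
    (K.isoHomologyι (ComplexShape.embeddingDownNat.f 0) 1 (by simp) hd).symm ≪≫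
      eqToIso (by rw [hz]) ≪≫ e
  let f : (rst K).X 0 ⟶ M := K.pOpcycles (ComplexShape.embeddingDownNat.f 0) ≫ e'.hom
  have hE : Epi (K.pOpcycles (ComplexShape.embeddingDownNat.f 0)) := inferInstance
  have hE' : Epi f := epi_comp _ _
  have hf : (rst K).d 1 0 ≫ f = 0 := by
    change K.d _ _ ≫ K.pOpcycles _ ≫ _ = 0
    rw [K.d_pOpcycles_assoc, zero_comp]
  have hex : (ShortComplex.mk (K.d (ComplexShape.embeddingDownNat.f 1) (ComplexShape.embeddingDownNat.f 0))
      (K.pOpcycles (ComplexShape.embeddingDownNat.f 0)) (K.d_pOpcycles _ _)).Exact :=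
    ShortComplex.exact_of_g_is_cokernel _ (K.opcyclesIsCokernel _ _ (by simp))
  have hex' : (ShortComplex.mk ((rst K).d 1 0) f hf).Exact := by
    have φ : ShortComplex.mk (K.d (ComplexShape.embeddingDownNat.f 1) (ComplexShape.embeddingDownNat.f 0))
      (K.pOpcycles (ComplexShape.embeddingDownNat.f 0)) (K.d_pOpcycles _ _) ≅
        ShortComplex.mk ((rst K).d 1 0) f hf :=
      ShortComplex.isoMk (Iso.refl _) (Iso.refl _) e' (by simp [rst]) (by simp [f, rst])
    exact (ShortComplex.exact_iff_of_iso φ).1 hex
  refine ⟨{ complex := rst K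
            projective := fun n => hp _
            π := (ChainComplex.toSingle₀Equiv _ _).symm ⟨f, hf⟩
            quasiIso := ⟨fun n => ?_⟩ }, rfl⟩
  cases n
  · rw [ChainComplex.quasiIsoAt₀_iff, ShortComplex.quasiIso_iff_of_zeros']
    · refine (ShortComplex.exact_and_epi_g_iff_of_iso
          (S₂ := ShortComplex.mk ((rst K).d 1 0) f hf) ?_).2
          ⟨hex', hE'⟩
      exact ShortComplex.isoMk (Iso.refl _) (Iso.refl _) (Iso.refl _)
            (by simp) (by
              simp only [Iso.refl_hom, Category.id_comp, Category.comp_id]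
              exact (ChainComplex.toSingle₀Equiv_symm_apply_f_zero f hf).symm)
    · exact (rst K).shape 0 0 (by simp)
    all_goals rfl
  · rename_i n
    rw [quasiIsoAt_iff_exactAt']
    · have hx : K.ExactAt (ComplexShape.embeddingDownNat.f (n + 1)) := by
        refine h0 _ ?_
        change -((n + 1 : ℕ) : ℤ) < 0
        omega
      rw [HomologicalComplex.exactAt_iff' _ (ComplexShape.embeddingDownNat.f (n + 2))
        (ComplexShape.embeddingDownNat.f (n + 1)) (ComplexShape.embeddingDownNat.f n) (by simp; ring) (by simp)] at hx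
      rw [HomologicalComplex.exactAt_iff' _ (n + 2) (n + 1) n (by simp) (by simp)]
      exact hx
    · apply ChainComplex.exactAt_succ_single_obj

/-- If `P` is bounded above by `b` with terms in `Q`, exact below `a` and `opcycles a` in `Q`, it is represented by
a complex with terms in `Q` vanishing outside `[a, b]`. -/
theorem exists_truncGE {Q : ObjectProperty (ModuleCat.{u} R)} [Q.IsClosedUnderIsomorphisms]
    (h0 : ∀ M : ModuleCat.{u} R, IsZero M → Q M) (F : Cx R) (a b : ℤ) (hb : VanishesAbove F b)
    (hF : ∀ i, Q (F.X i)) (hex : ∀ i, i < a → F.ExactAt i) (hn : Q (F.opcycles a)) :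
    ∃ E : Cx R, VanishesOutside E a b ∧ (∀ i, Q (E.X i)) ∧ Nonempty (toD E ≅ toD F) := by
  have hGE : F.IsGE a := by
    rw [CochainComplex.isGE_iff]
    exact hex
  refine ⟨F.truncGE a, ?_, ?_, ⟨(asIso (DerivedCategory.Q.map (F.πTruncGE a))).symm⟩⟩
  · rintro i (hi | hi)
    · exact CochainComplex.isZero_of_isStrictlyGE _ a i hi
    · exact Dcoh.BddCx.truncGE_isZero_of_lt F a b hb i hi
  · exact fun i => Dcoh.BddCx.prop_truncGE_X h0 F a hn (fun i _ => hF i) i

variable (M : Type u) [AddCommGroup M] [Module R M]

theorem isPerfectModule_of_resolution (P : ProjectiveResolution (ModuleCat.of R M)) (d : ℕ)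
    (h1 : ∀ i : ℕ, d < i → IsZero (P.complex.X i)) (h2 : ∀ i : ℕ, Module.Finite R (P.complex.X i)) :
    IsPerfectModule R M := by
  refine ⟨P.cochainComplex, -d, 0, ?_, ?_, ⟨?_⟩⟩
  · intro i hi
    by_cases h : 0 < i
    · exact CochainComplex.isZero_of_isStrictlyLE _ 0 _ h
    · obtain ⟨k, rfl⟩ := Int.exists_eq_neg_ofNat (not_lt.1 h)
      exact (h1 k (by omega)).of_iso (P.cochainComplexXIso (-k) k)
  · intro i
    by_cases hi : i ≤ 0
    · obtain ⟨k, rfl⟩ := Int.exists_eq_neg_ofNat hi
      have e' := (P.cochainComplexXIso (-k) k).symm.toLinearEquiv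
      have h3 := h2 k
      have h4 : Module.Projective R (P.complex.X k) := (IsProjective.iff_projective _).mpr (P.projective k)
      exact ⟨Module.Finite.equiv e', Module.Projective.of_equiv e'⟩
    · have hz : IsZero (P.cochainComplex.X i) :=
        CochainComplex.isZero_of_isStrictlyLE _ 0 _ (by omega)
      have : Subsingleton (P.cochainComplex.X i) := ModuleCat.subsingleton_of_isZero hz
      exact ⟨inferInstance, inferInstance⟩
  · have : QuasiIso P.π' := inferInstance
    have : IsIso (DerivedCategory.Q.map P.π') :=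
      (DerivedCategory.isIso_Q_map_iff_quasiIso (ModuleCat.{u} R) P.π').2 this
    exact @asIso _ _ _ _ (DerivedCategory.Q.map P.π') this

/-- A perfect module is represented by a complex of finite projectives in degrees `[-d, 0]`. -/
theorem exists_rep_of_isPerfectModule (h : IsPerfectModule R M) :
    ∃ (E : Cx R) (d : ℕ), VanishesOutside E (-d) 0 ∧ TermwiseFiniteProjective E ∧
      Nonempty (toD E ≅ Dual.inD R M) := by
  obtain ⟨hpc, a, b, hT⟩ := PerfFlat.isPerfect_iff.1 h
  let P : PCModule.PCMod R := ⟨ModuleCat.of R M, PCModule.pc_of_isPerfectModule M h⟩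
  let F := P.resolution
  have hb : VanishesAbove F.cochainComplex 0 := fun i hi =>
    CochainComplex.isZero_of_isStrictlyLE _ 0 _ hi
  have hF : TermwiseFiniteFree F.cochainComplex := by
    intro i
    by_cases hi : i ≤ 0
    · obtain ⟨k, rfl⟩ := Int.exists_eq_neg_ofNat hi
      have e : F.cochainComplex.X (-k) ≅ ModuleCat.of R (Fin (P.seq k).k → R) :=
        F.cochainComplexXIso (-k) k
      have e' := e.symm.toLinearEquiv
      exact ⟨Module.Finite.equiv e', Module.Free.of_equiv e'⟩
    · have hz : IsZero (F.cochainComplex.X i) :=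
        CochainComplex.isZero_of_isStrictlyLE _ 0 _ (by omega)
      have : Subsingleton (F.cochainComplex.X i) := ModuleCat.subsingleton_of_isZero hz
      exact ⟨inferInstance, inferInstance⟩
  have eF : toD F.cochainComplex ≅ Dual.inD R M := by
    have : QuasiIso F.π' := inferInstance
    have : IsIso (DerivedCategory.Q.map F.π') :=
      (DerivedCategory.isIso_Q_map_iff_quasiIso (ModuleCat.{u} R) F.π').2 this
    exact @asIso _ _ _ _ (DerivedCategory.Q.map F.π') this
  obtain ⟨d, hd⟩ : ∃ d : ℕ, (-(d : ℤ)) ≤ a := ⟨(-a).toNat, by omega⟩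
  have hT' := PerfFlat.torAmp_of_iso eF.symm (PerfFlat.torAmp_mono hd le_rfl hT)
  have h5 := PerfFlat.flat_cok_of_torAmp F.cochainComplex 0 hb (fun i => by
    have := (hF i).2
    infer_instance) hT' (show -(d : ℤ) - 1 + 1 = -d by omega)
  have h6 : Module.Flat R (F.cochainComplex.opcycles (-d)) := by
    obtain ⟨e1⟩ := TorAmpRestr.nonempty_opcycles_equiv F.cochainComplex
      (show -(d : ℤ) - 1 + 1 = -d by omega)
    exact Module.Flat.of_linearEquiv e1
  have h7 := PerfC.RingPerf.finitePresentation_opcycles F.cochainComplex (-d) hF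
  obtain ⟨E, h8, h9, ⟨e⟩⟩ := exists_truncGE (Q := PerfC.RingPerf.finProj R)
    (fun _ h => PerfC.RingPerf.finProj_of_isZero h) F.cochainComplex (-d) 0 hb
    (fun i => by
      obtain ⟨h1, h2⟩ := hF i
      exact ⟨h1, inferInstance⟩)
    (fun i hi => PerfFlat.exactAt_of_torAmp _ hT' i (Or.inl hi))
    ⟨inferInstance, Module.Flat.projective_of_finitePresentation⟩
  exact ⟨E, d, h8, h9, ⟨e ≪≫ eF⟩⟩

/-- A module is perfect iff it has a finite resolution by finite projective modules. -/
theorem isPerfectModule_iff : IsPerfectModule R M ↔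
    ∃ (P : ProjectiveResolution (ModuleCat.of R M)) (d : ℕ),
      (∀ i : ℕ, d < i → IsZero (P.complex.X i)) ∧ ∀ i : ℕ, Module.Finite R (P.complex.X i) := by
  constructor
  · intro h
    obtain ⟨E, d, h1, h2, ⟨e⟩⟩ := exists_rep_of_isPerfectModule M h
    obtain ⟨P, hP⟩ := exists_projRes E (fun i hi => h1 i (Or.inr hi))
      (fun n => (IsProjective.iff_projective _).1 (h2 n).2)
      (fun n hn => PCModule.exactAt_of_iso E M e n hn.ne) (PCModule.homologyZeroIso E M e)
    have hX : ∀ i, P.complex.X i = E.X (-(i : ℤ)) := fun i => by rw [hP]; rfl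
    refine ⟨P, d, fun i hi => ?_, fun i => ?_⟩
    · rw [hX]
      exact h1 _ (Or.inl (by omega))
    · rw [hX]
      exact (h2 _).1
  · rintro ⟨P, d, h1, h2⟩
    exact isPerfectModule_of_resolution M P d h1 h2

end K227.PerfModule
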