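import Groth.Agent.LoccohB.InjRep
import Groth.Agent.DRing.K227.PerfModule

/-!
# Injective amplitude and projective amplitude in terms of morphisms in the derived category
-/

set_option autoImplicit false
universe u
open CategoryTheory CategoryTheory.Limits CochainComplex CochainComplex.HomComplex DerivedCategory
attribute [local instance] HasDerivedCategory.standard

namespace K227.InjAmp

open Groth.Agent.LoccohB.InjRep

variable {A : Type u} [CommRing A]

/-- `M` in degree `0`. -/
noncomputable abbrev sgl (M : ModuleCat.{u} A) : DRing.Cx A :=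
  (CochainComplex.singleFunctor (ModuleCat.{u} A) 0).obj M

lemma isZero_sgl (M : ModuleCat.{u} A) (i : ℤ) (h : i ≠ 0) : IsZero ((sgl M).X i) :=
  HomologicalComplex.isZero_single_obj_X (.up ℤ) 0 M i h

lemma eq_of_isZero_v {K L : DRing.Cx A} {n : ℤ} (h : ∀ p q : ℤ, p + n = q → IsZero (K.X p) ∨ IsZero (L.X q))
    (z z' : Cochain K L n) : z = z' := by
  refine Cochain.ext z z' fun p q hpq => ?_
  rcases h p q hpq with h | h
  · exact h.eq_of_src (z.v p q hpq) (z'.v p q hpq)
  · exact h.eq_of_tgt (z.v p q hpq) (z'.v p q hpq)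

/-- Vanishing of morphisms from modules to a bounded complex of injectives. -/
theorem subsingleton_of_injective (E : DRing.Cx A) [E.IsKInjective] (i : ℤ) (hE : IsZero (E.X i))
    (N : Type u) [AddCommGroup N] [Module A N] : Subsingleton (Dual.inD A N ⟶ (Q.obj E)⟦i⟧) := by
  refine subsingleton_of_iso_left (isoInD N) ⟨fun x y => ?_⟩
  obtain ⟨z, rfl⟩ := ofCocycle_surjective_of_isKInjective _ _ _ x
  obtain ⟨z', rfl⟩ := ofCocycle_surjective_of_isKInjective _ _ _ y
  refine congrArg _ (Subtype.ext (eq_of_isZero_v (fun p q hpq => ?_) _ _))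
  by_cases hp : p = 0
  · subst hp
    obtain rfl : i = q := by omega
    exact Or.inr hE
  · exact Or.inl (isZero_sgl _ p hp)

theorem injectiveAmplitude_tfae (K : Dual.D A) (a b : ℤ) :
    [DRing.HasInjAmplitudeIn A a b K,
      ∀ (N : Type u) [AddCommGroup N] [Module A N] (i : ℤ), (i < a ∨ b < i) →
        Subsingleton (DRing.ExtD A (Dual.inD A N) K i),
      ∀ (I : Ideal A) (i : ℤ), (i < a ∨ b < i) →
        Subsingleton (DRing.ExtD A (Dual.inD A (A ⧸ I)) K i)].TFAE := by
  tfae_have 1 → 2 := by
    rintro ⟨E, h1, h2, ⟨e⟩⟩ N _ _ i hi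
    have h3 : E.IsStrictlyGE a := by
      rw [CochainComplex.isStrictlyGE_iff]
      exact fun i hi => h1 i (Or.inl hi)
    have h4 : ∀ i, Injective (E.X i) := fun i => by
      have := h2 i
      exact (Module.injective_iff_injective_object.{u, u} A (E.X i)).1 this
    have h5 : E.IsKInjective := isKInjective_of_injective E a
    exact subsingleton_of_iso e.symm i (subsingleton_of_injective E i (h1 i hi) N)
  tfae_have 2 → 3 := fun h I i hi => h (A ⧸ I) i hi
  tfae_have 3 → 1 := by
    intro h
    have h0 : ∀ i, (i < a ∨ b < i) → Subsingleton (Dual.inD A A ⟶ K⟦i⟧) := by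
      intro i hi
      have e : ModuleCat.of A (A ⧸ (⊥ : Ideal A)) ≅ ModuleCat.of A A :=
        (Submodule.quotEquivOfEqBot (⊥ : Ideal A) rfl).toModuleIso
      exact subsingleton_of_iso_left ((DerivedCategory.singleFunctor (ModuleCat.{u} A) 0).mapIso e.symm) (h ⊥ i hi)
    have : DerivedCategory.IsGE K a := by
      rw [DerivedCategory.isGE_iff]
      intro i hi
      exact isZero_homology_of_subsingleton K i (h0 i (Or.inl hi))
    have : DerivedCategory.IsLE K b := by
      rw [DerivedCategory.isLE_iff]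
      intro i hi
      exact isZero_homology_of_subsingleton K i (h0 i (Or.inr hi))
    obtain ⟨I, h1, h2, h3, ⟨e⟩⟩ := exists_injective_representative K a b
      (fun I => h I (b + 1) (Or.inr (by omega)))
    refine ⟨I, ?_, fun i => ?_, ⟨e⟩⟩
    · rintro i (hi | hi)
      · exact I.isZero_of_isStrictlyGE a i hi
      · exact I.isZero_of_isStrictlyLE b i hi
    · exact (Module.injective_iff_injective_object.{u, u} A (I.X i)).2 (h3 i)
  tfae_finish

section Proj

/-- Vanishing of morphisms from a K-projective complex to a shift of a module. -/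
theorem subsingleton_of_projective (P : DRing.Cx A) [P.IsKProjective] (i : ℤ) (hP : IsZero (P.X (-i)))
    (N : Type u) [AddCommGroup N] [Module A N] : Subsingleton (Q.obj P ⟶ (Dual.inD A N)⟦i⟧) := by
  refine subsingleton_of_iso (isoInD N) i ⟨fun x y => ?_⟩
  obtain ⟨z, rfl⟩ := ofCocycle_surjective_of_isKProjective _ _ _ x
  obtain ⟨z', rfl⟩ := ofCocycle_surjective_of_isKProjective _ _ _ y
  refine congrArg _ (Subtype.ext (eq_of_isZero_v (fun p q hpq => ?_) _ _))
  by_cases hq : q = 0
  · subst hq
    obtain rfl : p = -i := by omega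
    exact Or.inl hP
  · exact Or.inr (isZero_sgl _ q hq)

/-- Maps `P^n → N` vanishing on boundaries extend to `P^{n+1}`. -/
lemma exists_ext_of_subsingleton (P : DRing.Cx A) [P.IsKProjective] (N : ModuleCat.{u} A) (n' n n'' : ℤ)
    (hn' : n' + 1 = n) (hn'' : n + 1 = n'') (i : ℤ) (hi : n + i = 0)
    (h : Subsingleton (Q.obj P ⟶ (Dual.inD A N)⟦i⟧)) (f : P.X n ⟶ N) (hf : P.d n' n ≫ f = 0) :
    ∃ g : P.X n'' ⟶ N, P.d n n'' ≫ g = f := by
  let z := Cocycle.toSingleMk (q := 0) f (n := i) hi n' hn' hf
  have hz : ofCocycle z = 0 := by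
    have h' := subsingleton_of_iso (isoInD N).symm i h
    exact Subsingleton.elim _ _
  rwa [ofCocycle_eq_zero_iff_of_isKProjective,
    Cocycle.toSingleMk_mem_coboundaries_iff _ _ _ _ _ n'' hn''] at hz

/-- If all morphisms from `K` to `E[-n]` vanish, `E` injective, then `H^n(K) = 0`. -/
theorem subsingleton_HD_of_subsingleton (K : Dual.D A) (n : ℤ)
    (h : ∀ (N : Type u) [AddCommGroup N] [Module A N], Subsingleton (K ⟶ (Dual.inD A N)⟦-n⟧)) :
    Subsingleton (Dual.HD A K n) := by
  obtain ⟨L, ⟨e⟩⟩ : ∃ L : DRing.Cx A, Nonempty (Q.obj L ≅ K) := ⟨_, ⟨Q.objObjPreimageIso K⟩⟩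
  have : EnoughInjectives (ModuleCat.{u} A) := ModuleCat.enoughInjectives.{u, u} A
  let E : ModuleCat.{u} A := Injective.under (L.homology n)
  let φ : L.opcycles n ⟶ E := Injective.factorThru (Injective.ι (L.homology n)) (L.homologyι n)
  have hφ : L.homologyι n ≫ φ = Injective.ι (L.homology n) := Injective.comp_factorThru _ _
  let f : L ⟶ (HomologicalComplex.single (ModuleCat.{u} A) (ComplexShape.up ℤ) n).obj E :=
    HomologicalComplex.mkHomToSingle (L.pOpcycles n ≫ φ) (fun i hi => by
      rw [L.d_pOpcycles_assoc, zero_comp])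
  have h1 : Q.map f = 0 := by
    have h2 : Subsingleton (Q.obj L ⟶ (DerivedCategory.singleFunctor (ModuleCat.{u} A) n).obj E) := by
      have h3 : Subsingleton (Q.obj L ⟶ (Dual.inD A E)⟦-n⟧) := subsingleton_of_iso_left e (h E)
      exact ⟨fun x y => by
        rw [← cancel_mono (((DerivedCategory.singleFunctors (ModuleCat.{u} A)).shiftIso (-n) n 0
          (by omega)).inv.app E)]
        exact @Subsingleton.elim _ h3 _ _⟩
    exact Subsingleton.elim (α := Q.obj L ⟶ (DerivedCategory.singleFunctor (ModuleCat.{u} A) n).obj E) _ _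
  have h2 : HomologicalComplex.homologyMap f n = 0 := by
    have h3 := homologyFunctorFactors_hom_naturality f n
    rw [h1, Functor.map_zero, zero_comp] at h3
    exact (cancel_epi ((homologyFunctorFactors (ModuleCat.{u} A) n).hom.app L)).1
      (h3.symm.trans comp_zero.symm)
  have h3 : HomologicalComplex.opcyclesMap f n ≫
      (HomologicalComplex.singleObjOpcyclesSelfIso (ComplexShape.up ℤ) n E).inv = φ := by
    rw [← cancel_epi (L.pOpcycles n), HomologicalComplex.p_opcyclesMap_assoc,
      HomologicalComplex.pOpcycles_singleObjOpcyclesSelfIso_inv]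
    simp [f]
  have h4 : Injective.ι (L.homology n) = 0 := by
    rw [← hφ, ← h3, ← HomologicalComplex.homologyι_naturality_assoc, h2, zero_comp]
  have h5 : IsZero (L.homology n) := by
    rw [IsZero.iff_id_eq_zero, ← cancel_mono (Injective.ι (L.homology n)), h4, comp_zero, zero_comp]
  exact ModuleCat.subsingleton_of_isZero (h5.of_iso ((homologyFunctor _ n).mapIso e.symm ≪≫
    (homologyFunctorFactors _ n).app L))

open K227.PerfFlat K227.PerfModule in
/-- The last step: a complex of projectives in `[a, b]`. -/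
theorem exists_projective_representative (K : Dual.D A) (a b : ℤ)
    (h0 : ∀ n : ℤ, (n < a - 1 ∨ b < n) → Subsingleton (Dual.HD A K n))
    (h1 : ∀ (N : Type u) [AddCommGroup N] [Module A N], Subsingleton (K ⟶ (Dual.inD A N)⟦-a + 1⟧)) :
    ∃ P : DRing.Cx A, DRing.VanishesOutside P a b ∧ (∀ i : ℤ, Module.Projective A (P.X i)) ∧
        Nonempty (DRing.toD P ≅ K) := by
  obtain ⟨P, hb, hp, ⟨e⟩⟩ := exists_projective_rep K b fun i hi => h0 i (Or.inr hi)
  have : P.IsStrictlyLE b := by
    rw [CochainComplex.isStrictlyLE_iff]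
    exact fun i hi => hb i hi
  have : P.IsKProjective := CochainComplex.isKProjective_of_projective P b
  obtain ⟨c, hc⟩ : ∃ c, c + 1 = a := ⟨a - 1, by omega⟩
  obtain ⟨g, hg⟩ := exists_ext_of_subsingleton P (P.opcycles c) (c - 1) c a (by omega) hc (-a + 1) (by omega)
    (subsingleton_of_iso_left e (h1 _)) (P.pOpcycles c) (P.d_pOpcycles _ _)
  have hg' : P.fromOpcycles c a ≫ g = 𝟙 _ := by
    rw [← cancel_epi (P.pOpcycles c), P.p_fromOpcycles_assoc, hg, Category.comp_id]
  have hc0 : P.ExactAt c := by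
    rw [HomologicalComplex.exactAt_iff_isZero_homology, IsZero.iff_id_eq_zero,
      ← cancel_mono (P.homologyι c), zero_comp, Category.id_comp,
      ← Category.comp_id (P.homologyι c), ← hg', P.homologyι_comp_fromOpcycles_assoc, zero_comp]
  obtain ⟨s, hs⟩ : ∃ s : P.opcycles a ⟶ P.X a, s ≫ P.pOpcycles a = 𝟙 _ := by
    refine ⟨P.descOpcycles (𝟙 _ - g ≫ P.fromOpcycles c a) c (by simp [← hc]) ?_, ?_⟩
    · rw [Preadditive.comp_sub, Category.comp_id, ← Category.assoc, hg, P.p_fromOpcycles, sub_self]
    · rw [← cancel_epi (P.pOpcycles a), P.p_descOpcycles_assoc, Preadditive.sub_comp, Category.id_comp,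
        Category.assoc]
      have h5 : P.fromOpcycles c a ≫ P.pOpcycles a = 0 := by
        rw [← cancel_epi (P.pOpcycles c), P.p_fromOpcycles_assoc, P.d_pOpcycles, comp_zero]
      rw [h5, comp_zero, sub_zero, Category.comp_id]
  have hpa : Projective (P.opcycles a) := by
    have := hp a
    exact (Retract.mk s (P.pOpcycles a) hs).projective
  obtain ⟨E, h3, h4, ⟨e'⟩⟩ := exists_truncGE
    (Q := Groth.Agent.Flat2C.TorAmpRestr.projProp A) (fun M h => h.projective) P a b hb hp
    (fun i hi => by
      by_cases hi' : i = c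
      · rw [hi']
        exact hc0
      · rw [HomologicalComplex.exactAt_iff_isZero_homology]
        have h6 : IsZero ((homologyFunctor (ModuleCat.{u} A) i).obj K) :=
          @ModuleCat.isZero_of_subsingleton A _ _ (h0 i (Or.inl (by omega)))
        exact h6.of_iso (((homologyFunctorFactors (ModuleCat.{u} A) i).app P).symm ≪≫
          (homologyFunctor (ModuleCat.{u} A) i).mapIso e)) hpa
  exact ⟨E, h3, fun i => (IsProjective.iff_projective _).2 (h4 i), ⟨e' ≪≫ e⟩⟩

theorem projectiveAmplitude_tfae (K : Dual.D A) (a b : ℤ) :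
    [∃ P : DRing.Cx A, DRing.VanishesOutside P a b ∧ (∀ i : ℤ, Module.Projective A (P.X i)) ∧
        Nonempty (DRing.toD P ≅ K),
      ∀ (N : Type u) [AddCommGroup N] [Module A N] (i : ℤ), (i < -b ∨ -a < i) →
        Subsingleton (DRing.ExtD A K (Dual.inD A N) i),
      (∀ n : ℤ, b < n → Subsingleton (Dual.HD A K n)) ∧
        ∀ (N : Type u) [AddCommGroup N] [Module A N] (i : ℤ), -a < i → Subsingleton (DRing.ExtD A K (Dual.inD A N) i),
      (∀ n : ℤ, (n < a - 1 ∨ b < n) → Subsingleton (Dual.HD A K n)) ∧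
        ∀ (N : Type u) [AddCommGroup N] [Module A N],
          Subsingleton (DRing.ExtD A K (Dual.inD A N) (-a + 1))].TFAE := by
  tfae_have 1 → 2 := by
    rintro ⟨P, h1, h2, ⟨e⟩⟩ N _ _ i hi
    have h3 : P.IsStrictlyLE b := by
      rw [CochainComplex.isStrictlyLE_iff]
      exact fun i hi => h1 i (Or.inr hi)
    have h4 : ∀ i, Projective (P.X i) := fun i => (IsProjective.iff_projective _).1 (h2 i)
    have h5 : P.IsKProjective := CochainComplex.isKProjective_of_projective P b
    exact subsingleton_of_iso_left e.symm (subsingleton_of_projective P i (h1 _ (by omega)) N)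
  tfae_have 2 → 3 := by
    intro h
    exact ⟨fun n hn => subsingleton_HD_of_subsingleton K n fun N _ _ => h N (-n) (Or.inl (by omega)),
      fun N _ _ i hi => h N i (Or.inr hi)⟩
  tfae_have 3 → 4 := by
    rintro ⟨h1, h2⟩
    refine ⟨?_, fun N _ _ => h2 N _ (by omega)⟩
    rintro n (hn | hn)
    · exact subsingleton_HD_of_subsingleton K n fun N _ _ => h2 N (-n) (by omega)
    · exact h1 n hn
  tfae_have 4 → 1 := fun h => exists_projective_representative K a b h.1 h.2
  tfae_finish

end Proj

end K227.InjAmp
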