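import Groth.Agent.DRing.K227.TorCrit
import Groth.Agent.DRing.K227.PerfModule
import Groth.Agent.DRing.K226.KFlatExt
import Groth.Agent.DRing.K226.KFlatSymm
import Groth.Agent.DRing.K232.TriTen
import Groth.Agent.LoccohB.ProjF

/-!
# Derived tensor products computed by K-flat complexes, and tor amplitude

* `kfl_of_isKProjective`, `nonempty_lten_kfl`, `nonempty_tensor_kfl`: `(Q P) ⊗ᴸ E ≅ Q (P ⊗ E)` for `P` K-flat.
* `exists_flatRes`: resolutions of modules.
* `nonempty_lten_module`: `(Q X) ⊗ᴸ M ≅ Q (N ⊗ X)` for a K-flat resolution `N` of `M`.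
* `exactAt_of_torAmp`, `torAmp_of_exactAt`: the criterion for tor amplitude with `N ⊗ X`, `X` arbitrary.
* `exactAt_tensor_of_flat`: `H^i(E ⊗ Y) = 0` outside `[a + c, b + d]` for `E` flat in `[a, b]` and `Y ∈ D^[c,d]`.
* `torAmp_restrict_lten` (S6953).
-/

set_option autoImplicit false

universe u

open CategoryTheory CategoryTheory.Limits CategoryTheory.Functor MonoidalCategory
open scoped ZeroObject

attribute [local instance] HasDerivedCategory.standard

namespace K227.KTen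

open DerivedCategory Groth.Agent DRing K227.PerfFlat K227.LbcFlat K227.TorCrit Groth.Agent.Flat2C
  Groth.Agent.Flat2C.TorAmpRestr Groth.Agent.Dcoh.KFlatAbs Groth.Agent.PerfB.RingKFlat
  Groth.Agent.LoccohB

variable {A : Type u} [CommRing A]

/-- Terms of a tensor product which vanish. -/
lemma isZero_tensor_X (E Y : Cx A) (n : ℤ) (h : ∀ p q, p + q = n → IsZero (E.X p) ∨ IsZero (Y.X q)) :
    IsZero ((E ⊗ Y : Cx A).X n) := by
  rw [IsZero.iff_id_eq_zero]
  refine TenCx.hom_ext_tι fun p q hpq => ?_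
  have h1 : IsZero ((E.X p) ⊗ (Y.X q) : ModuleCat.{u} A) := by
    rcases h p q hpq with h2 | h2
    · exact (tensorRight (Y.X q)).map_isZero h2
    · exact (tensorLeft (E.X p)).map_isZero h2
  exact h1.eq_of_src _ _

/-- K-projective complexes are K-flat. -/
theorem kfl_of_isKProjective (P : Cx A) [P.IsKProjective] : KFl (TR A) P := by
  intro L hL
  have h : QuasiIso (0 : L ⟶ (0 : Cx A)) := by
    rw [quasiIso_iff]
    intro i
    rw [quasiIsoAt_iff_exactAt _ _ (hL i)]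
    exact HomologicalComplex.ExactAt.of_isZero ((HomologicalComplex.eval _ _ i).map_isZero (isZero_zero _))
  have h1 := LTen.quasiIso_whiskerRight P (0 : L ⟶ (0 : Cx A))
  intro i
  have h2 : ((0 : Cx A) ⊗ P : Cx A).ExactAt i :=
    HomologicalComplex.ExactAt.of_isZero (isZero_tensor_X _ _ i fun p _ _ =>
      Or.inl ((HomologicalComplex.eval _ _ p).map_isZero (isZero_zero _)))
  exact (HomologicalComplex.exactAt_iff_isZero_homology _ _).2
    (((HomologicalComplex.exactAt_iff_isZero_homology _ _).1 h2).of_iso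
      (isoOfQuasiIsoAt ((0 : L ⟶ (0 : Cx A)) ▷ P) i))

/-- The value of the derived tensor product on K-flat complexes. -/
theorem nonempty_lten_kfl (E : Cx A) [HasLTensorCx A E] (P : Cx A) (hP : KFl (TR A) P) :
    Nonempty ((LTensorCx A E).obj (toD P) ≅ toD (P ⊗ E : Cx A)) := by
  obtain ⟨F, p, hF, hp, -, -⟩ := KProj.exists_kprojective P
  have h1 : QuasiIso (p ▷ E : (F ⊗ E : Cx A) ⟶ (P ⊗ E : Cx A)) :=
    K226.KFlat.quasiIso_whiskerRight_of_kfl p (kfl_of_isKProjective F) hP E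
  exact ⟨(LTensorCx A E).mapIso (asIso (Q.map p)).symm ≪≫ LTen.ltenIso E F ≪≫ asIso (Q.map (p ▷ E))⟩

/-- Invariance of `P ⊗ E` under isomorphisms in the derived category. -/
theorem nonempty_tensor_kfl {P P' E E' : Cx A} (hP : KFl (TR A) P) (hP' : KFl (TR A) P')
    (e : toD P ≅ toD P') (e' : toD E ≅ toD E') :
    Nonempty (toD (P ⊗ E : Cx A) ≅ toD (P' ⊗ E' : Cx A)) := by
  have := LTen.hasLTensorCx E
  have := LTen.hasLTensorCx E'
  obtain ⟨e1⟩ := nonempty_lten_kfl E P hP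
  obtain ⟨e2⟩ := nonempty_lten_kfl E' P' hP'
  obtain ⟨e3⟩ := LTen.ltenCongr e'
  exact ⟨e1.symm ≪≫ (LTensorCx A E).mapIso e ≪≫ e3.app _ ≪≫ e2⟩

/-- Flat resolutions of modules. -/
theorem exists_flatRes (M : ModuleCat.{u} A) : ∃ N : Cx A, VanishesAbove N 0 ∧ (∀ i, Projective (N.X i)) ∧
    TermwiseFlat N ∧ KFl (TR A) N ∧ Nonempty (toD N ≅ Dual.inD A M) := by
  obtain ⟨P, h1, h2, h3⟩ := exists_projective_rep (Dual.inD A M) 0 (fun i hi => by
    have h : IsZero ((DerivedCategory.homologyFunctor (ModuleCat.{u} A) i).obj (Dual.inD A M)) :=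
      (HomologicalComplex.isZero_single_obj_homology _ _ _ _ (by omega)).of_iso
        ((DerivedCategory.homologyFunctorFactors (ModuleCat.{u} A) i).app
          ((CochainComplex.singleFunctor (ModuleCat.{u} A) 0).obj (ModuleCat.of A M)))
    exact ModuleCat.subsingleton_of_isZero h)
  have h4 : TermwiseFlat P := fun i => flat_of_projective (h2 i)
  exact ⟨P, h1, h2, h4, K226.KFlat.kfl_of_boundedAbove P 0 h1 h4, h3⟩

/-- `(Q X) ⊗ᴸ M ≅ Q (N ⊗ X)` for a K-flat resolution `N` of the module `M`. -/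
theorem nonempty_lten_module (M : ModuleCat.{u} A) [HasLTensor A M] (N X : Cx A) (hN : KFl (TR A) N)
    (e : toD N ≅ Dual.inD A M) : Nonempty ((LTensor A M).obj (toD X) ≅ toD (N ⊗ X : Cx A)) := by
  obtain ⟨P, p, hP, hp, -, -⟩ := KProj.exists_kprojective X
  have hPf := kfl_of_isKProjective P
  obtain ⟨e1⟩ := nonempty_lten_kproj M P
  obtain ⟨e2⟩ := nonempty_tensor_kfl (E' := N) (E := (HomologicalComplex.single _ _ 0).obj M) hPf hPf (Iso.refl _)
    e.symm
  obtain ⟨e3⟩ := nonempty_tensor_kfl hN hN (Iso.refl _) (asIso (Q.map p))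
  exact ⟨(LTensor A M).mapIso (asIso (Q.map p)).symm ≪≫ e1 ≪≫
    Q.mapIso (Dcoh.KFlatSingle.singleIso (TR A) P M) ≪≫ e2 ≪≫ Q.mapIso (LTen.swapIso P N) ≪≫ e3⟩

/-- The criterion, first half. -/
theorem exactAt_of_torAmp {X N : Cx A} {a b : ℤ} (h : HasTorAmplitudeIn A a b (toD X))
    (hN : KFl (TR A) N) {M : ModuleCat.{u} A} (e : toD N ≅ Dual.inD A M) (i : ℤ) (hi : i < a ∨ b < i) :
    (N ⊗ X : Cx A).ExactAt i := by
  have := fun M : ModuleCat.{u} A => LBC.hasLTensor M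
  obtain ⟨e1⟩ := nonempty_lten_module M N X hN e
  rw [exactAt_iff_subsingleton_HD]
  exact subsingleton_HD_of_iso e1 i ((torAmp_iff_lten (toD X) a b).1 h M i hi)

/-- The criterion, second half. -/
theorem torAmp_of_exactAt (X : Cx A) (a b : ℤ)
    (h : ∀ (M : ModuleCat.{u} A) (N : Cx A), VanishesAbove N 0 → (∀ i, Projective (N.X i)) → KFl (TR A) N →
      Nonempty (toD N ≅ Dual.inD A M) → ∀ i, (i < a ∨ b < i) → (N ⊗ X : Cx A).ExactAt i) :
    HasTorAmplitudeIn A a b (toD X) := by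
  have := fun M : ModuleCat.{u} A => LBC.hasLTensor M
  rw [torAmp_iff_lten]
  intro M i hi
  obtain ⟨N, h1, h2, h3, h4, ⟨e⟩⟩ := exists_flatRes M
  obtain ⟨e1⟩ := nonempty_lten_module M N X h4 e
  refine subsingleton_HD_of_iso e1.symm i ?_
  rw [← exactAt_iff_subsingleton_HD]
  exact h M N h1 h2 h4 ⟨e⟩ i hi

/-- Representatives of objects with cohomology in `[c, d]`. -/
theorem exists_bounded_rep (Y : Cx A) (c d : ℤ) (hY : ∀ i, (i < c ∨ d < i) → Y.ExactAt i) :
    ∃ Y' : Cx A, VanishesOutside Y' c d ∧ Nonempty (toD Y' ≅ toD Y) := by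
  obtain ⟨P, h1, h2, ⟨e⟩⟩ := exists_projective_rep (toD Y) d
    (fun i hi => (exactAt_iff_subsingleton_HD Y i).1 (hY i (Or.inr hi)))
  obtain ⟨E, h3, -, ⟨e'⟩⟩ := PerfModule.exists_truncGE (Q := (⊤ : ObjectProperty (ModuleCat.{u} A)))
    (fun _ _ => trivial) P c d h1 (fun _ => trivial)
    (fun i hi => exactAt_of_iso e i (hY i (Or.inl hi))) trivial
  exact ⟨E, h3, ⟨e' ≪≫ e⟩⟩

lemma kfl_of_vanishesOutside (E : Cx A) {a b : ℤ} (h1 : VanishesOutside E a b) (h2 : TermwiseFlat E) :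
    KFl (TR A) E :=
  K226.KFlat.kfl_of_boundedAbove E b (fun i hi => h1 i (Or.inr hi)) h2

theorem exactAt_tensor_of_flat (E Y : Cx A) {a b c d : ℤ} (h1 : VanishesOutside E a b)
    (h2 : TermwiseFlat E) (hY : ∀ i, (i < c ∨ d < i) → Y.ExactAt i) (i : ℤ) (hi : i < a + c ∨ b + d < i) :
    (E ⊗ Y : Cx A).ExactAt i := by
  obtain ⟨Y', h3, ⟨e⟩⟩ := exists_bounded_rep Y c d hY
  have hE := kfl_of_vanishesOutside E h1 h2
  obtain ⟨e'⟩ := nonempty_tensor_kfl hE hE (Iso.refl _) e.symm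
  refine exactAt_of_iso e' i (HomologicalComplex.ExactAt.of_isZero (isZero_tensor_X E Y' i ?_))
  intro p q hpq
  by_cases hp : p < a ∨ b < p
  · exact Or.inl (h1 p hp)
  · exact Or.inr (h3 q (by omega))

section Restrict

variable {B : Type u} [CommRing B] (φ : A →+* B)

/-- `N ⊗ X|_A` and `N_B ⊗ X`. -/
theorem exactAt_tensor_res_iff (N : Cx A) (X : Cx B) (i : ℤ) :
    (N ⊗ (restrictCx φ).obj X : Cx A).ExactAt i ↔ ((ProjF.extCx φ).obj N ⊗ X : Cx B).ExactAt i := by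
  rw [← exactAt_restrict_iff φ]
  have e := ProjF.projIso φ N X
  exact ⟨fun h => exactAt_of_iso (Q.mapIso e.symm) i h, fun h => exactAt_of_iso (Q.mapIso e) i h⟩

/-- Tor amplitude of the restriction to `A` of a derived tensor product over `B`. -/
theorem torAmp_restrict_lten (K : Dual.D B) (a b c d : ℤ) (hK : HasTorAmplitudeIn B a b K) (L : Cx B)
    (hL : HasTorAmplitudeIn A c d (toD ((restrictCx φ).obj L))) [HasLTensorCx B L] :
    HasTorAmplitudeIn A (a + c) (b + d) ((restrictD φ).obj ((LTensorCx B L).obj K)) := by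
  obtain ⟨E, h1, h2, ⟨e⟩⟩ := hK
  obtain ⟨e1⟩ := nonempty_lten_kfl L E (kfl_of_vanishesOutside E h1 h2)
  refine torAmp_of_iso ((restrictIso φ (E ⊗ L : Cx B)).symm ≪≫
    (restrictD φ).mapIso (e1.symm ≪≫ (LTensorCx B L).mapIso e)) ?_
  refine torAmp_of_exactAt _ _ _ fun M N hN hN' hNf ⟨eN⟩ i hi => ?_
  rw [exactAt_tensor_res_iff]
  have h3 : ∀ j, (j < c ∨ d < j) → ((ProjF.extCx φ).obj N ⊗ L : Cx B).ExactAt j := by
    intro j hj
    rw [← exactAt_tensor_res_iff]
    exact exactAt_of_torAmp hL hNf eN j hj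
  have h4 := exactAt_tensor_of_flat E _ h1 h2 h3 i hi
  have e2 : ((ProjF.extCx φ).obj N ⊗ (E ⊗ L) : Cx B) ≅ (E ⊗ ((ProjF.extCx φ).obj N ⊗ L) : Cx B) :=
    (α_ _ _ _).symm ≪≫ whiskerRightIso (LTen.swapIso _ _) L ≪≫ α_ _ _ _
  exact exactAt_of_iso (Q.mapIso e2) i h4

end Restrict

end K227.KTen
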