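import Groth.Agent.LoccohB.BCFlat
import Groth.Agent.Flat2C.TorAmpRestr
import Groth.Prelude.Def_DDual2

/-!
# Derived functors of `- ⊗_A B` and `- ⊗_A M` on bounded above complexes of flat modules

For an additive right exact functor `F : Mod A ⥤ Mod B` and a class `P` of modules adapted to `F` and containing the
projective modules, the left derived functor `LF` of `F` has the value `Q (F E)` at `Q E` if `E` is bounded above with
terms in `P` (`isIso_lfQCounit`, `nonempty_lf_iso`).

* `adapted_ext φ`, `adapted_tensorRight M`: flat modules are adapted to `- ⊗_A B`, `- ⊗_A M`.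
* `quasiIso_ext`, `quasiIso_tensor`: these functors preserve quasi-isomorphisms between bounded above complexes
  of flat modules.
* `isIso_lbcQCounit_of_flat`, `nonempty_lbc_iso`: `LBaseChange φ (Q E) ≅ Q (E ⊗ B)` for such `E`.
* `nonempty_lten_iso`: `LTensor A M (Q E) ≅ Q (E ⊗ M)` for such `E`.
-/

set_option autoImplicit false

universe u

open CategoryTheory CategoryTheory.Limits CategoryTheory.Functor MonoidalCategory

attribute [local instance] HasDerivedCategory.standard

namespace K227.LbcFlat

open DerivedCategory Groth.Agent.LoccohB Groth.Agent.LoccohB.LBC Groth.Agent.LoccohB.BCUnit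
  Groth.Agent.PerfC.AcyclicBdd Groth.Agent

variable {A B : Type u} [CommRing A] [CommRing B]

/-- The class of flat modules. -/
def flatP (A : Type u) [CommRing A] : ObjectProperty (ModuleCat.{u} A) := fun M => Module.Flat A M

lemma flatP_of_isZero (M : ModuleCat.{u} A) (h : IsZero M) : flatP A M := by
  have := ModuleCat.subsingleton_of_isZero h
  unfold flatP
  infer_instance

lemma flatP_biprod (M N : ModuleCat.{u} A) (hM : flatP A M) (hN : flatP A N) : flatP A (M ⊞ N) := by
  have h := (ShortComplex.Splitting.ofHasBinaryBiproduct M N).shortExact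
  exact @Ega3A.FlatSES.flat_middle _ _ _ _ _ _ _ _ _ _ _ _ _ h.moduleCat_injective_f
    ((ShortComplex.ShortExact.moduleCat_exact_iff_function_exact _).1 h.exact)
    h.moduleCat_surjective_g hM hN

lemma flatP_ker (S : ShortComplex (ModuleCat.{u} A)) (h : S.ShortExact) (h₂ : flatP A S.X₂)
    (h₃ : flatP A S.X₃) : flatP A S.X₁ :=
  @Ega3A.FlatSES.flat_left _ _ _ _ _ _ _ _ _ _ _ _ _ h.moduleCat_injective_f
    ((ShortComplex.ShortExact.moduleCat_exact_iff_function_exact _).1 h.exact)
    h.moduleCat_surjective_g h₂ h₃

lemma flatP_of_projective (M : ModuleCat.{u} A) (h : Projective M) : flatP A M :=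
  Flat2C.TorAmpRestr.flat_of_projective h

lemma lTensor_injective (S : ShortComplex (ModuleCat.{u} A)) (h : S.ShortExact) (h₃ : flatP A S.X₃)
    (M : Type u) [AddCommGroup M] [Module A M] : Function.Injective (S.f.hom.lTensor M) :=
  @Ega3A.FlatSES.lTensor_injective_of_flat _ _ _ _ _ _ _ _ _ _ _ _ _
    h.moduleCat_injective_f ((ShortComplex.ShortExact.moduleCat_exact_iff_function_exact _).1 h.exact)
    h.moduleCat_surjective_g h₃ M _ _

section General

variable (F : ModuleCat.{u} A ⥤ ModuleCat.{u} B) [F.Additive]

/-- `F` on homotopy categories followed by localization. -/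
noncomputable abbrev FKh : HomotopyCategory (ModuleCat.{u} A) (ComplexShape.up ℤ) ⥤ Dual.D B :=
  F.mapHomotopyCategory (ComplexShape.up ℤ) ⋙ DerivedCategory.Qh

/-- The total left derived functor exists (always true). -/
abbrev HasLF : Prop :=
  (FKh F).HasLeftDerivedFunctor (HomotopyCategory.quasiIso (ModuleCat.{u} A) (ComplexShape.up ℤ))

theorem hasLF : HasLF F := LBC.hasLeftDerivedFunctor A _

/-- The total left derived functor. -/
noncomputable abbrev LF [HasLF F] : Dual.D A ⥤ Dual.D B :=
  (FKh F).totalLeftDerived DerivedCategory.Qh (HomotopyCategory.quasiIso (ModuleCat.{u} A) (ComplexShape.up ℤ))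

variable [HasLF F]

/-- The counit on homotopy categories. -/
noncomputable def lfCounit : Qh ⋙ LF F ⟶ FKh F :=
  (FKh F).totalLeftDerivedCounit Qh
    (HomotopyCategory.quasiIso (ModuleCat.{u} A) (ComplexShape.up ℤ))

instance : (LF F).IsLeftDerivedFunctor (lfCounit F)
    (HomotopyCategory.quasiIso (ModuleCat.{u} A) (ComplexShape.up ℤ)) := by
  unfold lfCounit
  infer_instance

instance isIso_lfCounit_app (P : CochainComplex (ModuleCat.{u} A) ℤ) [P.IsKProjective] :
    IsIso ((lfCounit F).app ((HomotopyCategory.quotient _ _).obj P)) :=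
  isIso_app A _ (lfCounit F) P

/-- The counit on complexes. -/
noncomputable def lfQCounit : Q ⋙ LF F ⟶ F.mapHomologicalComplex (ComplexShape.up ℤ) ⋙ Q :=
  whiskerRight (quotientCompQhIso (ModuleCat.{u} A)).inv (LF F) ≫
    (Functor.associator _ _ _).hom ≫
    whiskerLeft (HomotopyCategory.quotient (ModuleCat.{u} A) (ComplexShape.up ℤ)) (lfCounit F) ≫
    (Functor.associator _ _ _).inv ≫
    whiskerRight (F.mapHomotopyCategoryFactors
      (ComplexShape.up ℤ)).hom Qh ≫ (Functor.associator _ _ _).hom ≫
    whiskerLeft _ (quotientCompQhIso (ModuleCat.{u} B)).hom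

instance isIso_lfQCounit_app (P : CochainComplex (ModuleCat.{u} A) ℤ) [P.IsKProjective] :
    IsIso ((lfQCounit F).app P) := by
  dsimp only [lfQCounit, NatTrans.comp_app, whiskerRight_app, whiskerLeft_app,
    Functor.associator_hom_app, Functor.associator_inv_app]
  infer_instance

/-- If `F` preserves a K-projective resolution of `K` then it computes the derived functor at `K`. -/
lemma isIso_lfQCounit_of_res {L K : CochainComplex (ModuleCat.{u} A) ℤ} [L.IsKProjective] (p : L ⟶ K)
    [QuasiIso p] (hp : QuasiIso ((F.mapHomologicalComplex (ComplexShape.up ℤ)).map p)) :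
    IsIso ((lfQCounit F).app K) := by
  have h1 := (lfQCounit F).naturality p
  have h2 : IsIso (Q.map p) := inferInstance
  have h3 : IsIso (Q.map ((F.mapHomologicalComplex (ComplexShape.up ℤ)).map p)) := inferInstance
  have h4 : IsIso ((Q ⋙ LF F).map p) :=
    inferInstanceAs (IsIso ((LF F).map (Q.map p)))
  have h5 : IsIso ((Q ⋙ LF F).map p ≫ (lfQCounit F).app K) := by
    rw [h1]
    exact inferInstanceAs (IsIso ((lfQCounit F).app L ≫
      Q.map ((F.mapHomologicalComplex (ComplexShape.up ℤ)).map p)))
  exact IsIso.of_isIso_comp_left ((Q ⋙ LF F).map p) _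

variable {P : ObjectProperty (ModuleCat.{u} A)}

/-- Adapted classes compute the derived functor. -/
theorem isIso_lfQCounit [PreservesFiniteColimits F] (hA : Adapted F P)
    (hbi : ∀ X Y : ModuleCat.{u} A, P X → P Y → P (X ⊞ Y)) (hpr : ∀ X : ModuleCat.{u} A, Projective X → P X)
    (E : DRing.Cx A) (b : ℤ) (hb : DRing.VanishesAbove E b) (hE : ∀ i, P (E.X i)) :
    IsIso ((lfQCounit F).app E) := by
  obtain ⟨L, p, h1, h2, h3⟩ := Flat2C.TorAmpRestr.exists_projective_resolution E b
    (fun i hi => HomologicalComplex.ExactAt.of_isZero (hb i hi))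
  have : L.IsStrictlyLE b := by
    rw [CochainComplex.isStrictlyLE_iff]
    exact fun i hi => h1 i hi
  have : L.IsKProjective := CochainComplex.isKProjective_of_projective L b
  exact isIso_lfQCounit_of_res F p (hA.quasiIso_map hbi p b h1 hb (fun i => hpr _ (h2 i)) hE)

theorem nonempty_lf_iso [PreservesFiniteColimits F] (hA : Adapted F P)
    (hbi : ∀ X Y : ModuleCat.{u} A, P X → P Y → P (X ⊞ Y)) (hpr : ∀ X : ModuleCat.{u} A, Projective X → P X)
    (E : DRing.Cx A) (b : ℤ) (hb : DRing.VanishesAbove E b) (hE : ∀ i, P (E.X i)) :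
    Nonempty ((LF F).obj (Q.obj E) ≅ Q.obj ((F.mapHomologicalComplex (ComplexShape.up ℤ)).obj E)) := by
  have := isIso_lfQCounit F hA hbi hpr E b hb hE
  exact ⟨asIso ((lfQCounit F).app E)⟩

end General

section Ext

theorem adapted_ext_alg [Algebra A B] :
    Adapted (ModuleCat.extendScalars.{u, u, u} (algebraMap A B)) (flatP A) where
  zero := flatP_of_isZero
  ker := flatP_ker
  mono S h h₃ := by
    rw [ModuleCat.mono_iff_injective]
    have h5 := lTensor_injective S h h₃ B
    have h6 : ⇑((ModuleCat.extendScalars.{u, u, u} (algebraMap A B)).map S.f).hom =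
      (FlatLBC.extEquiv A B _) ∘ (LinearMap.lTensor B S.f.hom) ∘ (FlatLBC.extEquiv A B _).symm := by
      funext x
      obtain ⟨t, rfl⟩ := (FlatLBC.extEquiv A B _).surjective x
      dsimp only [Function.comp_apply]
      rw [LinearEquiv.symm_apply_apply]
      induction t using TensorProduct.induction_on with
      | zero => simp only [_root_.map_zero]
      | add x y hx hy => simp only [_root_.map_add, hx, hy]
      | tmul c m => rfl
    rw [h6]
    exact (FlatLBC.extEquiv A B _).injective.comp (h5.comp (FlatLBC.extEquiv A B _).symm.injective)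

variable (φ : A →+* B)

/-- Flat modules are adapted to extension of scalars. -/
theorem adapted_ext : Adapted (ModuleCat.extendScalars.{u, u, u} φ) (flatP A) := by
  let _ := φ.toAlgebra
  exact adapted_ext_alg (A := A) (B := B)

/-- Flat modules are adapted to `- ⊗ M`. -/
theorem adapted_tensorRight (M : ModuleCat.{u} A) : Adapted (tensorRight M) (flatP A) where
  zero := flatP_of_isZero
  ker := flatP_ker
  mono S h h₃ := by
    rw [ModuleCat.mono_iff_injective]
    have h5 := lTensor_injective S h h₃ M
    rw [LinearMap.lTensor_inj_iff_rTensor_inj] at h5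
    exact h5

theorem preservesFiniteColimits_extendScalars :
    PreservesFiniteColimits (ModuleCat.extendScalars.{u, u, u} φ) :=
  haveI : PreservesColimits (ModuleCat.extendScalars.{u, u, u} φ) :=
    (ModuleCat.extendRestrictScalarsAdj φ).leftAdjoint_preservesColimits
  PreservesColimits.preservesFiniteColimits _

theorem preservesFiniteColimits_tensorRight (M : ModuleCat.{u} A) :
    PreservesFiniteColimits (tensorRight M) :=
  preservesFiniteColimits_of_natIso (BraidedCategory.tensorLeftIsoTensorRight M)

theorem quasiIso_ext {K L : DRing.Cx A} (f : K ⟶ L) [QuasiIso f] (b : ℤ) (hK : DRing.VanishesAbove K b)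
    (hL : DRing.VanishesAbove L b) (hK' : DRing.TermwiseFlat K) (hL' : DRing.TermwiseFlat L) :
    QuasiIso ((extCx φ).map f) := by
  have := preservesFiniteColimits_extendScalars φ
  exact (adapted_ext φ).quasiIso_map flatP_biprod f b hK hL hK' hL'

theorem quasiIso_tensor (M : ModuleCat.{u} A) {K L : DRing.Cx A} (f : K ⟶ L) [QuasiIso f] (b : ℤ)
    (hK : DRing.VanishesAbove K b) (hL : DRing.VanishesAbove L b) (hK' : DRing.TermwiseFlat K)
    (hL' : DRing.TermwiseFlat L) :
    QuasiIso (((tensorRight M).mapHomologicalComplex (ComplexShape.up ℤ)).map f) := by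
  have := preservesFiniteColimits_tensorRight M
  exact (adapted_tensorRight M).quasiIso_map flatP_biprod f b hK hL hK' hL'

theorem isIso_lbcQCounit_of_flat [DRing.HasLBaseChange φ] (E : DRing.Cx A) (b : ℤ)
    (hb : DRing.VanishesAbove E b) (hE : DRing.TermwiseFlat E) : IsIso ((lbcQCounit φ).app E) := by
  have := preservesFiniteColimits_extendScalars φ
  obtain ⟨L, p, h1, h2, h3⟩ := Flat2C.TorAmpRestr.exists_projective_resolution E b
    (fun i hi => HomologicalComplex.ExactAt.of_isZero (hb i hi))
  have : L.IsStrictlyLE b := by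
    rw [CochainComplex.isStrictlyLE_iff]
    exact fun i hi => h1 i hi
  have : L.IsKProjective := CochainComplex.isKProjective_of_projective L b
  exact BCFlat.isIso_lbcQCounit_of_res φ p (quasiIso_ext φ p b h1 hb
    (fun i => flatP_of_projective _ (h2 i)) hE)

/-- The value of derived base change on bounded above complexes of flat modules. -/
theorem nonempty_lbc_iso [DRing.HasLBaseChange φ] (E : DRing.Cx A) (b : ℤ)
    (hb : DRing.VanishesAbove E b) (hE : DRing.TermwiseFlat E) :
    Nonempty ((DRing.LBaseChange φ).obj (DRing.toD E) ≅ DRing.toD ((extCx φ).obj E)) := by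
  have := isIso_lbcQCounit_of_flat φ E b hb hE
  exact ⟨asIso ((lbcQCounit φ).app E)⟩

/-- The value of the derived tensor product with a module on bounded above complexes of flat modules. -/
theorem nonempty_lten_iso (M : ModuleCat.{u} A) [DRing.HasLTensor A M] (E : DRing.Cx A) (b : ℤ)
    (hb : DRing.VanishesAbove E b) (hE : DRing.TermwiseFlat E) :
    Nonempty ((DRing.LTensor A M).obj (DRing.toD E) ≅ DRing.toD (DRing.tensorCx E M)) := by
  have := preservesFiniteColimits_tensorRight M
  exact nonempty_lf_iso (tensorRight M) (adapted_tensorRight M) flatP_biprod flatP_of_projective E b hb hE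

end Ext

end K227.LbcFlat
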