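import Groth.Agent.DRing.K229.PerfInd
import Groth.Agent.DRing.K232.TriTen
import Groth.Agent.LoccohB.FlatPerf

/-!
# Triangulated functors and perfect objects

* `isPerfect_map`: a triangulated functor `F : D(A) ⥤ D(B)` with `F(A)` perfect preserves perfect objects.
* `isPerfect_lten`: `K ⊗ᴸ L` is perfect for `K`, `L` perfect.
* `isPerfect_restrictD`: restriction of scalars along `A → B` with `B` a perfect `A`-module.
-/

set_option autoImplicit false

universe u

open CategoryTheory CategoryTheory.Limits CategoryTheory.Pretriangulated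

attribute [local instance] HasDerivedCategory.standard

namespace K227.PerfDev

open DerivedCategory Groth.Agent.LoccohB Groth.Agent.PerfC.IsoLocus Groth.Agent

variable {A B : Type u} [CommRing A] [CommRing B]

theorem isPerfect_map (F : Dual.D A ⥤ Dual.D B) (hF : IsTriang F)
    (h : DRing.IsPerfect B (F.obj (Dual.inD A A))) (K : Dual.D A) (hK : DRing.IsPerfect A K) :
    DRing.IsPerfect B (F.obj K) := by
  let P : ObjectProperty (Dual.D A) := fun K => DRing.IsPerfect B (F.obj K)
  have : P.IsClosedUnderIsomorphisms := ⟨fun e h => PerfTri.isPerfect_of_iso (F.mapIso e) h⟩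
  obtain ⟨_, _⟩ := hF
  refine K229.PerfInd.prop_of_isPerfect P h ?_ ?_ ?_ K hK
  · intro K n hK
    exact PerfTri.isPerfect_of_iso ((F.commShiftIso n).app K).symm (PerfTri.isPerfect_shift n hK)
  · intro T hT h₁ h₃
    exact PerfTri.isPerfect_obj₂ (F.map_distinguished T hT) h₁ h₃
  · intro X Y _ h
    refine K229.PerfRetract.isPerfect_of_retract (F.map (biprod.inl : X ⟶ X ⊞ Y))
      (F.map (biprod.fst : X ⊞ Y ⟶ X)) ?_ h
    rw [← F.map_comp, biprod.inl_fst, F.map_id]

theorem isPerfect_lten (L : DRing.Cx A) [DRing.HasLTensorCx A L] (hL : DRing.IsPerfect A (DRing.toD L))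
    (K : Dual.D A) (hK : DRing.IsPerfect A K) : DRing.IsPerfect A ((DRing.LTensorCx A L).obj K) := by
  refine isPerfect_map _ (K232.TriTen.isTriang_LTensorCx L) ?_ K hK
  have e := LTenUnit.ltenSg L 0
  exact PerfTri.isPerfect_of_iso e.symm (PerfTri.isPerfect_shift (-0) hL)

/-- `restrictD (M[0]) ≅ M[0]`. -/
noncomputable def restrictDInDAlg [Algebra A B] (M : Type u) [AddCommGroup M] [Module B M] [Module A M]
    [IsScalarTower A B M] : (DRing.restrictD (algebraMap A B)).obj (Dual.inD B M) ≅ Dual.inD A M :=
  FlatPerf.restrictDInD (algebraMap A B) M ≪≫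
    @PerfTri.inDIso A _ M M _ (Module.compHom M (algebraMap A B)) _ _
      (@AddEquiv.toLinearEquiv A M M _ _ _ (Module.compHom M (algebraMap A B)) _ (AddEquiv.refl M)
        fun a x => algebraMap_smul B a x)

theorem isPerfect_restrictD [Algebra A B] (h : DRing.IsPerfectModule A B)
    (K : Dual.D B) (hK : DRing.IsPerfect B K) :
    DRing.IsPerfect A ((DRing.restrictD (algebraMap A B)).obj K) := by
  refine isPerfect_map _ (K232.TriTen.isTriang_restrictD (algebraMap A B)) ?_ K hK
  exact PerfTri.isPerfect_of_iso (restrictDInDAlg B).symm h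

end K227.PerfDev
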