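import Groth.Agent.Flat2H.TorDimPoly
import Groth.Agent.LoccohB.FlatPerf
import Groth.Agent.DRing.K227.PerfModule
import Groth.Agent.S0563
import Mathlib.RingTheory.Spectrum.Prime.FreeLocus

/-!
# Finite modules over Noetherian regular rings are perfect

* `exists_syzygy`: for `M` finite over a Noetherian ring and `n`, a finite module `N` such that, for every flat `S`,
  `S ⊗ M` has tor dimension `≤ n` iff `S ⊗ N` is flat.
* `exists_torDim_of_forall`: if all `M_p` have finite tor dimension then `M` has finite tor dimension.
* `isPerfectModule_of_regular`.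
-/

set_option autoImplicit false

universe u

open CategoryTheory CategoryTheory.Limits TensorProduct

attribute [local instance] HasDerivedCategory.standard

namespace K227.RegPerf

open Groth.Agent Groth.Agent.Flat2H Groth.Agent.Flat2H.TorDim Groth.Agent.Flat2H.TorDimPoly

variable {A : Type u} [CommRing A]

theorem exists_syzygy [IsNoetherianRing A] (n : ℕ) : ∀ (M : Type u) [AddCommGroup M] [Module A M]
    [Module.Finite A M], ∃ (N : Type u) (_ : AddCommGroup N) (_ : Module A N) (_ : Module.Finite A N),
      ∀ (S : Type u) [CommRing S] [Algebra A S] [Module.Flat A S],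
        DRing.HasTorDimLE S n (S ⊗[A] M) ↔ Module.Flat S (S ⊗[A] N) := by
  induction n with
  | zero =>
    intro M _ _ _
    exact ⟨M, inferInstance, inferInstance, inferInstance, fun S _ _ _ => hasTorDimLE_zero_iff⟩
  | succ n ih =>
    intro M _ _ _
    obtain ⟨k, f, hf⟩ := Module.Finite.exists_fin' A M
    let f' : (ULift.{u} (Fin k) → A) →ₗ[A] M :=
      f ∘ₗ (LinearEquiv.funCongrLeft A A Equiv.ulift.symm).toLinearMap
    have hf' : Function.Surjective f' := hf.comp (LinearEquiv.surjective _)
    obtain ⟨N, i1, i2, i3, h⟩ := ih (LinearMap.ker f')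
    refine ⟨N, i1, i2, i3, fun S _ _ _ => ?_⟩
    rw [hasTorDimLE_succ_baseChange_iff S f' hf', h S]

/-- Finite tor dimension can be checked on local rings. -/
theorem exists_torDim_of_forall [IsNoetherianRing A] (M : Type u) [AddCommGroup M] [Module A M]
    [Module.Finite A M]
    (h : ∀ p : PrimeSpectrum A, ∃ n : ℕ, DRing.HasTorDimLE (Localization.AtPrime p.asIdeal) n
      (Localization.AtPrime p.asIdeal ⊗[A] M)) : ∃ n : ℕ, DRing.HasTorDimLE A n M := by
  have h1 := fun n => exists_syzygy (A := A) n M
  choose N i1 i2 i3 hN using h1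
  have hmem : ∀ (n : ℕ) (p : PrimeSpectrum A), p ∈ Module.freeLocus A (N n) ↔
      DRing.HasTorDimLE (Localization.AtPrime p.asIdeal) n (Localization.AtPrime p.asIdeal ⊗[A] M) := by
    intro n p
    rw [Module.mem_freeLocus_iff_tensor p (Localization.AtPrime p.asIdeal),
      hN n (Localization.AtPrime p.asIdeal)]
    refine ⟨fun _ => inferInstance, fun _ => ?_⟩
    exact Module.free_of_flat_of_isLocalRing
  have hmono : Monotone fun n => Module.freeLocus A (N n) := by
    intro n m hnm p hp
    rw [hmem] at hp ⊢
    exact HasTorDimLE.mono hp hnm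
  obtain ⟨n, hn⟩ := (isCompact_univ (X := PrimeSpectrum A)).elim_directed_cover
    (fun n => Module.freeLocus A (N n))
    (fun n => by
      have : Module.FinitePresentation A (N n) := Module.finitePresentation_of_finite A (N n)
      exact Module.isOpen_freeLocus)
    (fun p _ => by
      obtain ⟨n, hn⟩ := h p
      exact Set.mem_iUnion.2 ⟨n, (hmem n p).2 hn⟩) hmono.directed_le
  have hfp : Module.FinitePresentation A (N n) := Module.finitePresentation_of_finite A (N n)
  have hpr : Module.Projective A (N n) := Module.freeLocus_eq_univ_iff.1 (Set.univ_subset_iff.1 hn)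
  refine ⟨n, ?_⟩
  have h2 : DRing.HasTorDimLE A n (A ⊗[A] M) := (hN n A).2 inferInstance
  exact HasTorDimLE.of_linearEquiv (TensorProduct.lid A M) h2

/-- A finite module over a Noetherian ring with regular local rings is perfect. -/
theorem isPerfectModule_of_regular [IsNoetherianRing A]
    (hreg : ∀ p : PrimeSpectrum A, IsRegularLocalRing (Localization.AtPrime p.asIdeal))
    (M : Type u) [AddCommGroup M] [Module A M] [Module.Finite A M] : DRing.IsPerfectModule A M := by
  obtain ⟨n, hn⟩ := exists_torDim_of_forall M fun p => by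
    have := hreg p
    obtain ⟨d, hd⟩ : ∃ d : ℕ, ringKrullDim (Localization.AtPrime p.asIdeal) = d :=
      ⟨_, (isRegularLocalRing_iff _).1 (hreg p) |>.symm⟩
    exact ⟨d, hasTorDimLE_of_hasProjectiveDimensionLE (S0563.result _ d hd _)⟩
  exact LoccohB.FlatPerf.isPerfect_inD_of_fpInf n (FPInf.of_isNoetherianRing M) hn

/-- Perfect modules are finite. -/
theorem finite_of_isPerfectModule (M : Type u) [AddCommGroup M] [Module A M]
    (h : DRing.IsPerfectModule A M) : Module.Finite A M :=
  (PCModule.pc_of_isPerfectModule M h 0).finite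

end K227.RegPerf
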