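import Groth.Agent.DRing.K227.LbcFlat
import Groth.Agent.DRing.K227.PerfFlat
import Groth.Agent.Dcoh.FlatTor
import Groth.Agent.LoccohB.LTen

/-!
# The criterion for tor amplitude by vanishing of the cohomology of `K ⊗ M`

* `exactAt_tensorCx_iff`: `(tensorCx Q M).ExactAt` in terms of `rTensor`.
* `torAmp_iff_tensorCx`: for `Q` bounded above with flat terms, `toD Q` has tor amplitude in `[a, b]` iff
  `H^i(Q ⊗ M) = 0` for all modules `M` and all `i` outside `[a, b]`.
* `torAmp_iff_lten`: the same with `LTensor` for every object of `D(A)`.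
-/

set_option autoImplicit false

universe u

open CategoryTheory CategoryTheory.Limits CategoryTheory.Functor MonoidalCategory

attribute [local instance] HasDerivedCategory.standard

namespace K227.TorCrit

open DerivedCategory Groth.Agent DRing K227.PerfFlat K227.LbcFlat Groth.Agent.Flat2C
  Groth.Agent.Flat2C.TorAmpCone Groth.Agent.Flat2C.TorAmpRestr

variable {A : Type u} [CommRing A]

lemma exactAt_iff_function (K : Cx A) {i j k : ℤ} (hij : i + 1 = j) (hjk : j + 1 = k) :
    K.ExactAt j ↔ Function.Exact (K.d i j).hom (K.d j k).hom := by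
  rw [K.exactAt_iff' i j k (by simp; lia) (by simp; lia)]
  exact ShortComplex.ShortExact.moduleCat_exact_iff_function_exact _

/-- Exactness of `Q ⊗ M`. -/
lemma exactAt_tensorCx_iff (K : Cx A) (M : ModuleCat.{u} A) {i j k : ℤ} (hij : i + 1 = j) (hjk : j + 1 = k) :
    (tensorCx K M).ExactAt j ↔
      Function.Exact ((K.d i j).hom.rTensor M) ((K.d j k).hom.rTensor M) :=
  exactAt_iff_function (tensorCx K M) hij hjk

lemma exactAt_of_tensorCx_self (K : Cx A) (j : ℤ) (h : (tensorCx K (ModuleCat.of A A)).ExactAt j) :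
    K.ExactAt j := by
  rw [exactAt_tensorCx_iff K _ (show j - 1 + 1 = j by omega) rfl] at h
  rw [exactAt_iff_function K (show j - 1 + 1 = j by omega) rfl]
  have key : ∀ (i j : ℤ) (y : TensorProduct A (K.X i) A), (K.d i j).hom (TensorProduct.rid A _ y) =
        TensorProduct.rid A _ ((K.d i j).hom.rTensor A y) := by
    intro i j y
    induction y using TensorProduct.induction_on with
    | zero => simp only [_root_.map_zero]
    | add x y hx hy => simp only [_root_.map_add, hx, hy]
    | tmul a c => rw [LinearMap.rTensor_tmul, TensorProduct.rid_tmul, TensorProduct.rid_tmul, _root_.map_smul]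
  intro x
  constructor
  · intro hx
    obtain ⟨y, hy⟩ := (h (x ⊗ₜ[A] (1 : A))).1 (by
      change (K.d j (j + 1)).hom.rTensor A (x ⊗ₜ[A] (1 : A)) = 0
      rw [LinearMap.rTensor_tmul, hx, TensorProduct.zero_tmul])
    refine ⟨TensorProduct.rid A _ y, ?_⟩
    refine (key _ _ y).trans ((congrArg (TensorProduct.rid A _) hy).trans ?_)
    rw [TensorProduct.rid_tmul, one_smul]
  · rintro ⟨y, rfl⟩
    exact TorAmpCone.d_d_apply K _ _ _ y

/-- Transfer of `- ⊗ M` along isomorphisms in `D(A)`. -/
theorem nonempty_tensor_iso (M : ModuleCat.{u} A) {P Q : Cx A} {b c : ℤ} (hP : VanishesAbove P b)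
    (hP' : TermwiseFlat P) (hQ : VanishesAbove Q c) (hQ' : TermwiseFlat Q) (e : toD P ≅ toD Q) :
    Nonempty (toD (tensorCx P M) ≅ toD (tensorCx Q M)) := by
  have := LoccohB.LBC.hasLTensor M
  obtain ⟨e1⟩ := nonempty_lten_iso M P b hP hP'
  obtain ⟨e2⟩ := nonempty_lten_iso M Q c hQ hQ'
  exact ⟨e1.symm ≪≫ (LTensor A M).mapIso e ≪≫ e2⟩

lemma flat_cok_of_tensor (P : Cx A) (hP : TermwiseFlat P) {g h a : ℤ} (hgh : g + 1 = h) (hha : h + 1 = a)
    (hex : ∀ M : ModuleCat.{u} A, (tensorCx P M).ExactAt h) : Module.Flat A (Cok P h a) := by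
  have := hP a
  refine Dcoh.FlatTor.flat_of_exact (P.d g h).hom (P.d h a).hom (LinearMap.range (P.d h a).hom).mkQ ?_
    (Submodule.mkQ_surjective _) ?_ ?_
  · rw [LinearMap.exact_iff, Submodule.ker_mkQ]
  · exact (exactAt_iff_function P hgh hha).1 (exactAt_of_tensorCx_self P h (hex _))
  · intro N _ _
    exact (exactAt_tensorCx_iff P (ModuleCat.of A N) hgh hha).1 (hex _)

/-- **Criterion for tor amplitude.** -/
theorem torAmp_iff_tensorCx (Q : Cx A) (c : ℤ) (hQ : VanishesAbove Q c) (hQ' : TermwiseFlat Q) (a b : ℤ) :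
    HasTorAmplitudeIn A a b (toD Q) ↔
      ∀ (M : ModuleCat.{u} A) (i : ℤ), (i < a ∨ b < i) → (tensorCx Q M).ExactAt i := by
  constructor
  · rintro ⟨E, h1, h2, ⟨e⟩⟩ M i hi
    obtain ⟨e'⟩ := nonempty_tensor_iso M hQ hQ' (fun i hi => h1 i (Or.inr hi)) h2 e.symm
    refine exactAt_of_iso e' i (HomologicalComplex.ExactAt.of_isZero ?_)
    exact (tensorRight M).map_isZero (h1 i hi)
  · intro h
    obtain ⟨P, hp, hP, hP', hq⟩ := exists_projective_resolution Q b
      (fun i hi => exactAt_of_tensorCx_self Q i (h _ i (Or.inr hi)))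
    have hPf : TermwiseFlat P := fun i => flat_of_projective (hP' i)
    have hPb : VanishesAbove P b := hP
    have ePQ : toD P ≅ toD Q := asIso (DerivedCategory.Q.map hp)
    have hex : ∀ (M : ModuleCat.{u} A) (i : ℤ), (i < a ∨ b < i) → (tensorCx P M).ExactAt i := by
      intro M i hi
      obtain ⟨e'⟩ := nonempty_tensor_iso M hPb hPf hQ hQ' ePQ
      exact exactAt_of_iso e' i (h M i hi)
    refine torAmp_of_iso ePQ (torAmp_of_flat_cok P a b (a - 1) (by omega) hPb ?_ hPf ?_)
    · exact fun i hi => exactAt_of_tensorCx_self P i (hex _ i (Or.inl hi))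
    · exact flat_cok_of_tensor P hPf (show a - 1 - 1 + 1 = a - 1 by omega) (by omega)
        (fun M => hex M _ (Or.inl (by omega)))

lemma exactAt_iff_subsingleton_HD (K : Cx A) (i : ℤ) :
    K.ExactAt i ↔ Subsingleton (Dual.HD A (toD K) i) := by
  rw [HomologicalComplex.exactAt_iff_isZero_homology]
  constructor
  · intro h
    exact ModuleCat.subsingleton_of_isZero (h.of_iso
      ((DerivedCategory.homologyFunctorFactors (ModuleCat.{u} A) i).app K))
  · intro h
    have h1 : IsZero ((DerivedCategory.homologyFunctor (ModuleCat.{u} A) i).obj (toD K)) :=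
      @ModuleCat.isZero_of_subsingleton A _ _ h
    exact h1.of_iso ((DerivedCategory.homologyFunctorFactors (ModuleCat.{u} A) i).app K).symm

lemma subsingleton_HD_of_iso {K L : Dual.D A} (e : K ≅ L) (i : ℤ) (h : Subsingleton (Dual.HD A K i)) :
    Subsingleton (Dual.HD A L i) := by
  have h1 : IsZero ((DerivedCategory.homologyFunctor (ModuleCat.{u} A) i).obj K) :=
    @ModuleCat.isZero_of_subsingleton A _ _ h
  exact ModuleCat.subsingleton_of_isZero (h1.of_iso
    ((DerivedCategory.homologyFunctor (ModuleCat.{u} A) i).mapIso e.symm))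

section Object

/-- The value of `LTensor A M` on K-projective complexes. -/
theorem nonempty_lten_kproj (M : ModuleCat.{u} A) [HasLTensor A M] (P : Cx A) [P.IsKProjective] :
    Nonempty ((LTensor A M).obj (toD P) ≅ toD (tensorCx P M)) := by
  have h := isIso_lfQCounit_app (tensorRight M) P
  exact ⟨@asIso _ _ _ _ _ h⟩

/-- **Criterion for tor amplitude.** -/
theorem torAmp_iff_lten [∀ M : ModuleCat.{u} A, HasLTensor A M] (K : Dual.D A) (a b : ℤ) :
    HasTorAmplitudeIn A a b K ↔ ∀ (M : ModuleCat.{u} A) (i : ℤ), (i < a ∨ b < i) →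
      Subsingleton (Dual.HD A ((LTensor A M).obj K) i) := by
  constructor
  · intro h M i hi
    obtain ⟨E, h1, h2, ⟨e⟩⟩ := h
    obtain ⟨e'⟩ := nonempty_lten_iso M E b (fun i hi => h1 i (Or.inr hi)) h2
    refine subsingleton_HD_of_iso (e'.symm ≪≫ (LTensor A M).mapIso e) i ?_
    rw [← exactAt_iff_subsingleton_HD]
    exact HomologicalComplex.ExactAt.of_isZero ((tensorRight M).map_isZero (h1 i hi))
  · intro h
    obtain ⟨K', hK', ⟨e⟩⟩ := LoccohB.LTen.exists_kproj K
    have h1 : ∀ i, b < i → K'.ExactAt i := by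
      intro i hi
      refine exactAt_of_tensorCx_self K' i ?_
      rw [exactAt_iff_subsingleton_HD]
      obtain ⟨e1⟩ := nonempty_lten_kproj (ModuleCat.of A A) K'
      exact subsingleton_HD_of_iso ((LTensor A _).mapIso e.symm ≪≫ e1) i (h _ i (Or.inr hi))
    have h2 : ∀ i, b < i → Subsingleton (Dual.HD A K i) := fun i hi =>
      subsingleton_HD_of_iso e i ((exactAt_iff_subsingleton_HD K' i).1 (h1 i hi))
    obtain ⟨P, hP, hP', ⟨eP⟩⟩ := exists_projective_rep K b h2
    have hPf : TermwiseFlat P := fun i => flat_of_projective (hP' i)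
    refine torAmp_of_iso eP ((torAmp_iff_tensorCx P b hP hPf a b).2 fun M i hi => ?_)
    obtain ⟨e'⟩ := nonempty_lten_iso M P b hP hPf
    rw [exactAt_iff_subsingleton_HD]
    exact subsingleton_HD_of_iso ((LTensor A M).mapIso eP.symm ≪≫ e') i (h M i hi)

end Object

end K227.TorCrit
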