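import Groth.Agent.DRing.K227.FlatBC

/-!
# Descent of tor amplitude along faithfully flat families of ring maps
-/

set_option autoImplicit false

universe u

open CategoryTheory CategoryTheory.Limits TensorProduct

attribute [local instance] HasDerivedCategory.standard

namespace K227.TorDesc

open DerivedCategory Groth.Agent Groth.Agent.PerfB Groth.Agent.PerfB.DescRing
  Groth.Agent.PerfC.RingPerf Groth.Agent.Flat2C Groth.Agent.Flat2C.TorAmpCone

variable {A : Type u} [CommRing A] {ι : Type u} [Finite ι] (B : ι → Type u) [∀ j, CommRing (B j)]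
  (φ : ∀ j, A →+* B j)

lemma flat_opcycles_iff (P : DRing.Cx A) {h a : ℤ} (hh : h + 1 = a) :
    Module.Flat A (P.opcycles a) ↔ Module.Flat A (Cok P h a) := by
  obtain ⟨e⟩ := TorAmpRestr.nonempty_opcycles_equiv P hh
  exact ⟨fun _ => Module.Flat.of_linearEquiv e.symm, fun _ => Module.Flat.of_linearEquiv e⟩

/-- Descent of tor amplitude. -/
theorem torAmp_descent_family (hφ : ∀ j, (φ j).Flat)
    (h : ∀ p : PrimeSpectrum A, ∃ j, ∃ q : PrimeSpectrum (B j), PrimeSpectrum.comap (φ j) q = p)
    [∀ j, PreservesFiniteLimits (ModuleCat.extendScalars.{u, u, u} (φ j))] (K : DRing.Cx A) (a b : ℤ)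
    (hK : ∀ j, DRing.HasTorAmplitudeIn (B j) a b (DRing.toD ((bcCx (φ j)).obj K))) :
    DRing.HasTorAmplitudeIn A a b (DRing.toD K) := by
  have hex : ∀ i, i < a ∨ b < i → K.ExactAt i := by
    intro i hi
    rw [HomologicalComplex.exactAt_iff_isZero_homology]
    refine FFFamily.isZero_of_forall B φ hφ h _ fun j => ?_
    have h1 := PerfFlat.exactAt_of_torAmp _ (hK j) i hi
    rw [HomologicalComplex.exactAt_iff_isZero_homology] at h1
    exact h1.of_iso (ShortComplex.mapHomologyIso (K.sc i) (ModuleCat.extendScalars.{u, u, u} (φ j))).symm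
  obtain ⟨P, p, h1, h2, h3⟩ := TorAmpRestr.exists_projective_resolution K b fun i hi => hex i (Or.inr hi)
  have eP : DRing.toD P ≅ DRing.toD K := asIso (Q.map p)
  refine PerfFlat.torAmp_of_iso eP (PerfFlat.torAmp_of_flat_cok P a b (a - 1) (by omega) h1
    (fun i hi => TorAmpRestr.exactAt_of_iso eP i (hex i (Or.inl hi)))
    (fun i => TorAmpRestr.flat_of_projective (h2 i)) ?_)
  rw [← flat_opcycles_iff P (by omega)]
  refine flat_module_of_forall B φ hφ h _ fun j => ?_
  have e1 : DRing.toD ((bcCx (φ j)).obj P) ≅ DRing.toD ((bcCx (φ j)).obj K) := by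
    have h4 : QuasiIso ((bcCx (φ j)).map p) := by
      infer_instance
    exact asIso (Q.map ((bcCx (φ j)).map p))
  have h5 := PerfFlat.torAmp_of_iso e1.symm (hK j)
  have h6 := PerfFlat.flat_cok_of_torAmp ((bcCx (φ j)).obj P) b
    (fun i hi => (ModuleCat.extendScalars.{u, u, u} (φ j)).map_isZero (h1 i hi))
    (fun i => FlatBC.flat_ext (φ j) _ (TorAmpRestr.flat_of_projective (h2 i))) h5
    (show a - 1 + 1 = a by omega)
  rw [← flat_opcycles_iff _ (by omega)] at h6
  exact Module.Flat.of_linearEquiv (opcyclesIso (φ j) P a).symm.toLinearEquiv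

end K227.TorDesc
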