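import Groth.Agent.DRing.K227.KTen
import Groth.Agent.DRing.K227.TorDesc
import Groth.Agent.DRing.K227.PerfDev
import Groth.Agent.LoccohB.LTenBC

/-!
# Tor amplitude: restriction of scalars, faithfully flat base change, triangles, retracts

* `torAmp_restrict` (S6947), `torAmp_restrict_iff`, `torAmp_restrict_lbc_iff` (S6951).
* `torAmp_obj₁`, `torAmp_obj₂`, `torAmp_obj₃`: triangles.
* `torAmp_of_retract`.
-/

set_option autoImplicit false

universe u

open CategoryTheory CategoryTheory.Limits CategoryTheory.Functor MonoidalCategory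
open CategoryTheory.Pretriangulated
open scoped ZeroObject

attribute [local instance] HasDerivedCategory.standard

namespace K227.TorMore

open DerivedCategory Groth.Agent DRing K227.PerfFlat K227.LbcFlat K227.TorCrit K227.KTen Groth.Agent.Flat2C
  Groth.Agent.Flat2C.TorAmpRestr Groth.Agent.Dcoh.KFlatAbs Groth.Agent.PerfB.RingKFlat
  Groth.Agent.LoccohB

section Restrict

variable {A B C : Type u} [CommRing A] [CommRing B] [CommRing C]

/-- `K ⊗ᴸ B ≅ K`. -/
theorem nonempty_lten_unit (L : Cx B) [HasLTensorCx B L] (e : toD L ≅ Dual.inD B B) (K : Dual.D B) :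
    Nonempty ((LTensorCx B L).obj K ≅ K) := by
  obtain ⟨P, hP, ⟨eP⟩⟩ := LTen.exists_kproj K
  have hPf := kfl_of_isKProjective P
  obtain ⟨e1⟩ := nonempty_lten_kfl L P hPf
  obtain ⟨e2⟩ := nonempty_tensor_kfl (E := L) (E' := LTenUnit.sg B 0) hPf hPf (Iso.refl _) e
  exact ⟨(LTensorCx B L).mapIso eP.symm ≪≫ e1 ≪≫ e2 ≪≫ Q.mapIso (LTen.swapIso P (LTenUnit.sg B 0) ≪≫
    LTenUnit.sgTen P 0 ≪≫ (shiftFunctorZero' (Cx B) (-0 : ℤ) (by simp)).app P) ≪≫ eP⟩

/-- Restriction of scalars along an algebra of finite tor dimension. -/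
theorem torAmp_restrict [Algebra A B] {c d : ℤ} (hB : HasTorAmplitudeIn A c d (Dual.inD A B))
    (K : Dual.D B) {a b : ℤ} (hK : HasTorAmplitudeIn B a b K) :
    HasTorAmplitudeIn A (a + c) (b + d) ((restrictD (algebraMap A B)).obj K) := by
  let L : Cx B := LTenUnit.sg B 0
  have := LTen.hasLTensorCx L
  obtain ⟨e⟩ := nonempty_lten_unit L (Iso.refl _) K
  refine torAmp_of_iso ((restrictD (algebraMap A B)).mapIso e)
    (torAmp_restrict_lten (algebraMap A B) K a b c d hK L ?_)
  exact torAmp_of_iso ((PerfDev.restrictDInDAlg (A := A) B).symm ≪≫ restrictIso (algebraMap A B) L) hB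

/-- The criterion for the restriction of scalars. -/
theorem torAmp_restrict_iff (φ : A →+* B) (X : Cx B) (a b : ℤ) :
    HasTorAmplitudeIn A a b ((restrictD φ).obj (toD X)) ↔
      ∀ (M : ModuleCat.{u} A) (N : Cx A), VanishesAbove N 0 → (∀ i, Projective (N.X i)) →
        Nonempty (toD N ≅ Dual.inD A M) → ∀ i, (i < a ∨ b < i) → ((ProjF.extCx φ).obj N ⊗ X : Cx B).ExactAt i := by
  constructor
  · intro h M N h1 h2 ⟨e⟩ i hi
    rw [← exactAt_tensor_res_iff]
    exact KTen.exactAt_of_torAmp (torAmp_of_iso (restrictIso φ X) h)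
      (K226.KFlat.kfl_of_boundedAbove N 0 h1 fun i => flat_of_projective (h2 i)) e i hi
  · intro h
    refine torAmp_of_iso (restrictIso φ X).symm (torAmp_of_exactAt _ _ _ fun M N h1 h2 _ h4 i hi => ?_)
    rw [exactAt_tensor_res_iff]
    exact h M N h1 h2 h4 i hi

/-- Exactness and faithfully flat base change. -/
theorem exactAt_ext_iff [Algebra A B] [Module.FaithfullyFlat A B] (K : Cx A) (i : ℤ) :
    ((BCUnit.extCx (algebraMap A B)).obj K).ExactAt i ↔ K.ExactAt i := by
  have hfl : (algebraMap A B).Flat := by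
    rw [RingHom.flat_algebraMap_iff]
    infer_instance
  have hex : PreservesFiniteLimits (ModuleCat.extendScalars.{u, u, u} (algebraMap A B)) :=
    ModuleCat.preservesFiniteLimits_extendScalars_of_flat hfl
  rw [HomologicalComplex.exactAt_iff_isZero_homology, HomologicalComplex.exactAt_iff_isZero_homology]
  have e := ShortComplex.mapHomologyIso (K.sc i) (ModuleCat.extendScalars.{u, u, u} (algebraMap A B))
  constructor
  · intro h
    refine PerfB.FFFamily.isZero_of_forall (ι := PUnit.{u + 1}) (fun _ => B) (fun _ => algebraMap A B)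
      (fun _ => hfl) ?_ _ fun _ => h.of_iso e.symm
    intro p
    obtain ⟨q, hq⟩ := PrimeSpectrum.comap_surjective_of_faithfullyFlat (A := A) (B := B) p
    exact ⟨⟨⟩, q, hq⟩
  · intro h
    exact ((ModuleCat.extendScalars.{u, u, u} (algebraMap A B)).map_isZero h).of_iso e

/-- Composition of extensions of scalars, on complexes. -/
noncomputable def extCxComp (φ : A →+* B) (ψ : B →+* C) (N : Cx A) :
    (ProjF.extCx (ψ.comp φ)).obj N ≅ (ProjF.extCx ψ).obj ((ProjF.extCx φ).obj N) :=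
  (NatIso.mapHomologicalComplex (ModuleCat.extendScalarsComp φ ψ) (ComplexShape.up ℤ)).app N

theorem torAmp_restrict_lbc_iff_aux (φ : A →+* B) [Algebra B C] [Module.FaithfullyFlat B C]
    [HasLBaseChange (algebraMap B C)] (K : Dual.D B) (a b : ℤ) :
    HasTorAmplitudeIn A a b ((restrictD φ).obj K) ↔
      HasTorAmplitudeIn A a b ((restrictD ((algebraMap B C).comp φ)).obj
        ((LBaseChange (algebraMap B C)).obj K)) := by
  obtain ⟨P, hP, ⟨e⟩⟩ := LTen.exists_kproj K
  have e1 : (LBaseChange (algebraMap B C)).obj K ≅ toD ((BCUnit.extCx (algebraMap B C)).obj P) :=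
    (LBaseChange (algebraMap B C)).mapIso e.symm ≪≫ LBC.lbcQIso (algebraMap B C) P
  have h1 : HasTorAmplitudeIn A a b ((restrictD φ).obj K) ↔
      HasTorAmplitudeIn A a b ((restrictD φ).obj (toD P)) :=
    ⟨torAmp_of_iso ((restrictD φ).mapIso e.symm), torAmp_of_iso ((restrictD φ).mapIso e)⟩
  have h2 : HasTorAmplitudeIn A a b ((restrictD ((algebraMap B C).comp φ)).obj
        ((LBaseChange (algebraMap B C)).obj K)) ↔
      HasTorAmplitudeIn A a b ((restrictD ((algebraMap B C).comp φ)).obj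
        (toD ((BCUnit.extCx (algebraMap B C)).obj P))) :=
    ⟨torAmp_of_iso ((restrictD _).mapIso e1), torAmp_of_iso ((restrictD _).mapIso e1.symm)⟩
  rw [h1, h2, torAmp_restrict_iff, torAmp_restrict_iff]
  refine forall_congr' fun M => forall_congr' fun N => forall_congr' fun _ => forall_congr' fun _ =>
    forall_congr' fun _ => forall_congr' fun i => forall_congr' fun _ => ?_
  rw [← exactAt_ext_iff (B := C)]
  have e3 := (LTenBC.extTenIso (algebraMap B C) P).app ((ProjF.extCx φ).obj N)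
  have e4 := whiskerRightIso (extCxComp φ (algebraMap B C) N) ((BCUnit.extCx (algebraMap B C)).obj P)
  exact ⟨exactAt_of_iso (Q.mapIso (e4 ≪≫ e3.symm)) i, exactAt_of_iso (Q.mapIso (e3 ≪≫ e4.symm)) i⟩

/-- Tor amplitude over the base ring and faithfully flat base change. -/
theorem torAmp_restrict_lbc_iff [Algebra A B] [Algebra B C] [Algebra A C] [IsScalarTower A B C]
    [Module.FaithfullyFlat B C] [HasLBaseChange (algebraMap B C)] (K : Dual.D B) (a b : ℤ) :
    HasTorAmplitudeIn A a b ((restrictD (algebraMap A B)).obj K) ↔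
      HasTorAmplitudeIn A a b ((restrictD (algebraMap A C)).obj
        ((LBaseChange (algebraMap B C)).obj K)) := by
  rw [IsScalarTower.algebraMap_eq A B C]
  exact torAmp_restrict_lbc_iff_aux (algebraMap A B) K a b

end Restrict

section Tri

variable {A : Type u} [CommRing A]

lemma subsingleton_HD_iff (K : Dual.D A) (i : ℤ) : Subsingleton (Dual.HD A K i) ↔
    IsZero ((homologyFunctor (ModuleCat.{u} A) i).obj K) :=
  ⟨fun h => @ModuleCat.isZero_of_subsingleton A _ _ h, fun h => ModuleCat.subsingleton_of_isZero h⟩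

lemma isZero_mid {X Y Z : ModuleCat.{u} A} {f : X ⟶ Y} {g : Y ⟶ Z} {w : f ≫ g = 0}
    (h : (ShortComplex.mk f g w).Exact) (h1 : IsZero X) (h2 : IsZero Z) : IsZero Y :=
  h.isZero_of_both_zeros (h1.eq_of_src _ _) (h2.eq_of_tgt _ _)

variable {T : Triangle (Dual.D A)} (hT : T ∈ distTriang (Dual.D A))

include hT

lemma hd_obj₂ (i : ℤ) (h1 : Subsingleton (Dual.HD A T.obj₁ i)) (h3 : Subsingleton (Dual.HD A T.obj₃ i)) :
    Subsingleton (Dual.HD A T.obj₂ i) := by
  rw [subsingleton_HD_iff] at *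
  exact isZero_mid (HomologySequence.exact₂ T hT i) h1 h3

lemma hd_obj₃ (i j : ℤ) (hij : i + 1 = j) (h2 : Subsingleton (Dual.HD A T.obj₂ i))
    (h1 : Subsingleton (Dual.HD A T.obj₁ j)) : Subsingleton (Dual.HD A T.obj₃ i) := by
  rw [subsingleton_HD_iff] at *
  exact isZero_mid (HomologySequence.exact₃ T hT i j hij) h2 h1

lemma hd_obj₁ (i j : ℤ) (hij : i + 1 = j) (h3 : Subsingleton (Dual.HD A T.obj₃ i))
    (h2 : Subsingleton (Dual.HD A T.obj₂ j)) : Subsingleton (Dual.HD A T.obj₁ j) := by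
  rw [subsingleton_HD_iff] at *
  exact isZero_mid (HomologySequence.exact₁ T hT i j hij) h3 h2

end Tri

section Crit

variable {A : Type u} [CommRing A]

/-- `M` in degree `0`. -/
noncomputable abbrev sgl (M : ModuleCat.{u} A) : Cx A := (CochainComplex.singleFunctor (ModuleCat.{u} A) 0).obj M

/-- `K ⊗ᴸ M` in both forms. -/
theorem nonempty_lten_ltenCx (M : ModuleCat.{u} A) [HasLTensor A M] [HasLTensorCx A (sgl M)] (K : Dual.D A) :
    Nonempty ((LTensor A M).obj K ≅ (LTensorCx A (sgl M)).obj K) := by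
  obtain ⟨P, hP, ⟨e⟩⟩ := LTen.exists_kproj K
  obtain ⟨e1⟩ := nonempty_lten_kproj M P
  obtain ⟨e2⟩ := nonempty_lten_kfl (sgl M) P (kfl_of_isKProjective P)
  exact ⟨(LTensor A M).mapIso e.symm ≪≫ e1 ≪≫ Q.mapIso (Dcoh.KFlatSingle.singleIso (TR A) P M) ≪≫ e2.symm ≪≫
    (LTensorCx A (sgl M)).mapIso e⟩

/-- The criterion with `LTensorCx`. -/
theorem torAmp_iff_ltenCx [∀ E : Cx A, HasLTensorCx A E] (K : Dual.D A) (a b : ℤ) :
    HasTorAmplitudeIn A a b K ↔ ∀ (M : ModuleCat.{u} A) (i : ℤ), (i < a ∨ b < i) →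
      Subsingleton (Dual.HD A ((LTensorCx A (sgl M)).obj K) i) := by
  have := fun M : ModuleCat.{u} A => LBC.hasLTensor M
  rw [torAmp_iff_lten]
  refine forall_congr' fun M => forall_congr' fun i => forall_congr' fun _ => ?_
  obtain ⟨e⟩ := nonempty_lten_ltenCx M K
  exact ⟨subsingleton_HD_of_iso e i, subsingleton_HD_of_iso e.symm i⟩

/-- The criterion with `LTensorCx`, the module being the variable. -/
theorem torAmp_iff_ltenCx' (X : Cx A) [HasLTensorCx A X] (a b : ℤ) :
    HasTorAmplitudeIn A a b (toD X) ↔ ∀ (M : ModuleCat.{u} A) (i : ℤ), (i < a ∨ b < i) →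
      Subsingleton (Dual.HD A ((LTensorCx A X).obj (Dual.inD A M)) i) := by
  have := fun M : ModuleCat.{u} A => LBC.hasLTensor M
  rw [torAmp_iff_lten]
  refine forall_congr' fun M => forall_congr' fun i => forall_congr' fun _ => ?_
  obtain ⟨N, -, -, -, h4, ⟨e⟩⟩ := exists_flatRes M
  obtain ⟨e1⟩ := nonempty_lten_module M N X h4 e
  obtain ⟨e2⟩ := nonempty_lten_kfl X N h4
  exact ⟨subsingleton_HD_of_iso (e1 ≪≫ e2.symm ≪≫ (LTensorCx A X).mapIso e) i,
    subsingleton_HD_of_iso (e1 ≪≫ e2.symm ≪≫ (LTensorCx A X).mapIso e).symm i⟩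

/-- The criterion for K-flat complexes. -/
theorem torAmp_iff_sgl (P : Cx A) (hP : KFl (TR A) P) (a b : ℤ) :
    HasTorAmplitudeIn A a b (toD P) ↔ ∀ (M : ModuleCat.{u} A) (i : ℤ), (i < a ∨ b < i) →
      (P ⊗ sgl M : Cx A).ExactAt i := by
  have := fun E : Cx A => LTen.hasLTensorCx E
  rw [torAmp_iff_ltenCx]
  refine forall_congr' fun M => forall_congr' fun i => forall_congr' fun _ => ?_
  obtain ⟨e2⟩ := nonempty_lten_kfl (sgl M) P hP
  rw [exactAt_iff_subsingleton_HD]
  exact ⟨subsingleton_HD_of_iso e2 i, subsingleton_HD_of_iso e2.symm i⟩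

lemma exactAt_sgl_iff (P : Cx A) (hP : KFl (TR A) P) [HasLTensorCx A P] (M : ModuleCat.{u} A) (i : ℤ) :
    (P ⊗ sgl M : Cx A).ExactAt i ↔ Subsingleton (Dual.HD A ((LTensorCx A P).obj (Dual.inD A M)) i) := by
  obtain ⟨N, -, -, -, h4, ⟨e⟩⟩ := exists_flatRes M
  obtain ⟨e1⟩ := nonempty_tensor_kfl (E := sgl M) (E' := N) hP hP (Iso.refl _) e.symm
  obtain ⟨e2⟩ := nonempty_lten_kfl P N h4
  have e3 := e1 ≪≫ Q.mapIso (LTen.swapIso P N) ≪≫ e2.symm ≪≫ (LTensorCx A P).mapIso e
  rw [exactAt_iff_subsingleton_HD]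
  exact ⟨subsingleton_HD_of_iso e3 i, subsingleton_HD_of_iso e3.symm i⟩

section Triangle

variable {T : Triangle (Dual.D A)} (hT : T ∈ distTriang (Dual.D A)) {a b : ℤ}

include hT

theorem torAmp_obj₂ (h1 : HasTorAmplitudeIn A a b T.obj₁) (h3 : HasTorAmplitudeIn A a b T.obj₃) :
    HasTorAmplitudeIn A a b T.obj₂ := by
  have := fun E : Cx A => LTen.hasLTensorCx E
  rw [torAmp_iff_ltenCx] at *
  intro M i hi
  obtain ⟨_, _⟩ := K232.TriTen.isTriang_LTensorCx (sgl M)
  exact hd_obj₂ ((LTensorCx A (sgl M)).map_distinguished T hT) i (h1 M i hi) (h3 M i hi)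

theorem torAmp_obj₃ (h2 : HasTorAmplitudeIn A a b T.obj₂) (h1 : HasTorAmplitudeIn A (a + 1) (b + 1) T.obj₁) :
    HasTorAmplitudeIn A a b T.obj₃ := by
  have := fun E : Cx A => LTen.hasLTensorCx E
  rw [torAmp_iff_ltenCx] at *
  intro M i hi
  obtain ⟨_, _⟩ := K232.TriTen.isTriang_LTensorCx (sgl M)
  exact hd_obj₃ ((LTensorCx A (sgl M)).map_distinguished T hT) i (i + 1) rfl (h2 M i hi)
    (h1 M (i + 1) (by omega))

theorem torAmp_obj₁ (h3 : HasTorAmplitudeIn A (a - 1) (b - 1) T.obj₃) (h2 : HasTorAmplitudeIn A a b T.obj₂) :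
    HasTorAmplitudeIn A a b T.obj₁ := by
  have := fun E : Cx A => LTen.hasLTensorCx E
  rw [torAmp_iff_ltenCx] at *
  intro M i hi
  obtain ⟨_, _⟩ := K232.TriTen.isTriang_LTensorCx (sgl M)
  exact hd_obj₁ ((LTensorCx A (sgl M)).map_distinguished T hT) (i - 1) i (by omega) (h3 M (i - 1) (by omega))
    (h2 M i hi)

end Triangle

/-- Direct summands. -/
theorem torAmp_of_retract {K L : Dual.D A} (s : K ⟶ L) (r : L ⟶ K) (h : s ≫ r = 𝟙 K) {a b : ℤ}
    (hL : HasTorAmplitudeIn A a b L) : HasTorAmplitudeIn A a b K := by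
  have := fun E : Cx A => LTen.hasLTensorCx E
  rw [torAmp_iff_ltenCx] at *
  intro M i hi
  have h1 := hL M i hi
  rw [subsingleton_HD_iff] at *
  let F := LTensorCx A (sgl M) ⋙ homologyFunctor (ModuleCat.{u} A) i
  have h2 : F.map s ≫ F.map r = 𝟙 _ := by rw [← F.map_comp, h, F.map_id]
  have h3 : IsZero (F.obj L) := h1
  change IsZero (F.obj K)
  rw [IsZero.iff_id_eq_zero, ← h2, h3.eq_of_tgt (F.map s) 0, zero_comp]

/-- The upper bound is a bound for the cohomology. -/
theorem torAmp_upper {K : Dual.D A} {a b b' : ℤ} (h : HasTorAmplitudeIn A a b K)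
    (hK : ∀ i, b' < i → Subsingleton (Dual.HD A K i)) : HasTorAmplitudeIn A a b' K := by
  obtain ⟨P, h1, h2, ⟨e⟩⟩ := exists_projective_rep K b' hK
  have h3 := torAmp_of_iso e.symm h
  exact torAmp_of_iso e (torAmp_of_flat_cok P a b' (a - 1) (by omega) h1
    (fun i hi => PerfFlat.exactAt_of_torAmp P h3 i (Or.inl hi)) (fun i => flat_of_projective (h2 i))
    (flat_cok_of_torAmp P b' h1 (fun i => flat_of_projective (h2 i)) h3 (by omega)))

/-- A bounded complex with terms of bounded tor amplitude. -/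
theorem torAmp_of_termwise (K : Cx A) (m n : ℤ) (hK : VanishesOutside K m n) {a b : ℤ}
    (h : ∀ i, HasTorAmplitudeIn A (a - i) (b - i) (Dual.inD A (K.X i))) : HasTorAmplitudeIn A a b (toD K) := by
  let P : ObjectProperty (Dual.D A) := fun K => HasTorAmplitudeIn A a b K
  have h1 : P.IsClosedUnderIsomorphisms := ⟨fun e h => torAmp_of_iso e h⟩
  have h2 : P.ContainsZero := ⟨⟨0, isZero_zero _, torAmp_of_iso
    ((singleFunctor (ModuleCat.{u} A) 0).map_isZero
      (ModuleCat.isZero_of_subsingleton (ModuleCat.of A PUnit.{u + 1}))).isoZero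
    ⟨sgl (ModuleCat.of A PUnit.{u + 1}), fun i _ => ?_, fun i => ?_, ⟨Iso.refl _⟩⟩⟩⟩
  · have h3 : P.IsTriangulatedClosed₂ := .mk' fun T hT h₁ h₃ => torAmp_obj₂ hT h₁ h₃
    refine K229.Devissage.termwise P K m n hK fun i => ?_
    have h4 := torAmp_shift (-i) (h i)
    rw [show a - i - -i = a by omega, show b - i - -i = b by omega] at h4
    exact torAmp_of_iso (((singleFunctors (ModuleCat.{u} A)).shiftIso (-i) i 0 (by omega)).app (K.X i)) h4
  · exact (HomologicalComplex.eval _ _ i).map_isZero ((CochainComplex.singleFunctor (ModuleCat.{u} A) 0).map_isZero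
      (ModuleCat.isZero_of_subsingleton (ModuleCat.of A PUnit.{u + 1})))
  · have h5 := (HomologicalComplex.eval _ _ i).map_isZero ((CochainComplex.singleFunctor (ModuleCat.{u} A) 0).map_isZero
      (ModuleCat.isZero_of_subsingleton (ModuleCat.of A PUnit.{u + 1})))
    exact flatP_of_isZero _ h5

end Crit

end K227.TorMore
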