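import Groth.Agent.DRing.K227.TorMore
import Groth.Agent.Flat2H.TorDim

/-!
# Tor amplitude and nilpotent thickenings; tor dimension of modules

* `torAmp_of_nilpotent` (S6952).
* `hasTorDimLE_iff` (S6946).
-/

set_option autoImplicit false

universe u

open CategoryTheory CategoryTheory.Limits CategoryTheory.Functor MonoidalCategory
open CategoryTheory.Pretriangulated

attribute [local instance] HasDerivedCategory.standard

namespace K227.TorNil

open DerivedCategory Groth.Agent DRing K227.PerfFlat K227.LbcFlat K227.TorCrit K227.KTen K227.TorMore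
  Groth.Agent.Flat2C Groth.Agent.Flat2C.TorAmpRestr Groth.Agent.Dcoh.KFlatAbs Groth.Agent.PerfB.RingKFlat
  Groth.Agent.LoccohB

section Nil

variable {A B : Type u} [CommRing A] [CommRing B] (φ : A →+* B)

/-- A module killed by the kernel of a surjection comes from the quotient. -/
theorem exists_module_of_surjective (hφ : Function.Surjective φ) (M : Type u) [AddCommGroup M] [Module A M]
    (h : ∀ x ∈ RingHom.ker φ, ∀ m : M, x • m = 0) :
    ∃ M' : ModuleCat.{u} B, Nonempty ((ModuleCat.restrictScalars φ).obj M' ≅ ModuleCat.of A M) := by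
  let s : SMul B M := ⟨fun b m => Function.surjInv hφ b • m⟩
  have hs : ∀ (c : A) (x : M), φ c • x = c • x := by
    intro c x
    change Function.surjInv hφ (φ c) • x = c • x
    rw [← sub_eq_zero, ← sub_smul]
    refine h _ ?_ x
    rw [RingHom.mem_ker, _root_.map_sub, Function.surjInv_eq hφ, sub_self]
  let i : Module B M := Function.Surjective.moduleLeft φ hφ hs
  let f : ((ModuleCat.restrictScalars φ).obj (ModuleCat.of B M) : ModuleCat.{u} A) →ₗ[A]
      (ModuleCat.of A M : ModuleCat.{u} A) :=
    { toFun := fun x => x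
      map_add' := fun _ _ => rfl
      map_smul' := hs }
  exact ⟨ModuleCat.of B M, ⟨(LinearEquiv.ofBijective f ⟨fun _ _ h => h, fun y => ⟨y, rfl⟩⟩).toModuleIso⟩⟩

/-- Vanishing on modules killed by the kernel. -/
theorem exactAt_of_killed (P : Cx A) (hP : KFl (TR A) P) {a b : ℤ}
    (h : HasTorAmplitudeIn B a b (toD ((ProjF.extCx φ).obj P))) (M' : ModuleCat.{u} B) (i : ℤ)
    (hi : i < a ∨ b < i) : (P ⊗ sgl ((ModuleCat.restrictScalars φ).obj M') : Cx A).ExactAt i := by
  have h1 : KFl (TR B) ((ProjF.extCx φ).obj P) := K226.KFlat.kfl_extendScalars φ P hP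
  have h2 := (torAmp_iff_sgl _ h1 a b).1 h M' i hi
  rw [← exactAt_tensor_res_iff] at h2
  have e : (restrictCx φ).obj (sgl M') ≅ sgl ((ModuleCat.restrictScalars φ).obj M') :=
    (HomologicalComplex.singleMapHomologicalComplex (ModuleCat.restrictScalars φ) (ComplexShape.up ℤ) 0).app M'
  exact exactAt_of_iso (Q.mapIso (whiskerLeftIso P e.symm)) i h2

variable (hφ : Function.Surjective φ)

include hφ in
theorem exactAt_of_pow (P : Cx A) (hP : KFl (TR A) P) {a b : ℤ}
    (h : HasTorAmplitudeIn B a b (toD ((ProjF.extCx φ).obj P))) (i : ℤ)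
    (hi : i < a ∨ b < i) (n : ℕ) : ∀ (M : Type u) [AddCommGroup M] [Module A M],
    (∀ x ∈ (RingHom.ker φ) ^ n, ∀ m : M, x • m = 0) → (P ⊗ sgl (ModuleCat.of A M) : Cx A).ExactAt i := by
  have := LTen.hasLTensorCx P
  obtain ⟨_, _⟩ := K232.TriTen.isTriang_LTensorCx P
  have hkill : ∀ (M : Type u) [AddCommGroup M] [Module A M],
      (∀ x ∈ (RingHom.ker φ), ∀ m : M, x • m = 0) → (P ⊗ sgl (ModuleCat.of A M) : Cx A).ExactAt i := by
    intro M _ _ hM
    obtain ⟨M', ⟨e⟩⟩ := exists_module_of_surjective φ hφ M hM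
    exact exactAt_of_iso (Q.mapIso (whiskerLeftIso P ((CochainComplex.singleFunctor _ 0).mapIso e.symm))) i
      (exactAt_of_killed φ P hP h M' i hi)
  induction n with
  | zero =>
    intro M _ _ hM
    refine hkill M fun x _ m => ?_
    have h1 := hM 1 (by simp) m
    rw [one_smul] at h1
    rw [h1, smul_zero]
  | succ n ih =>
    intro M _ _ hM
    let S : Submodule A M := (RingHom.ker φ) ^ n • ⊤
    obtain ⟨T, hT, h1, h2, h3⟩ := PerfTri.exists_triangle (A := A) S.subtype S.mkQ
      S.injective_subtype (by rw [LinearMap.exact_iff, Submodule.ker_mkQ, Submodule.range_subtype])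
      (Submodule.mkQ_surjective S)
    have h4 : (P ⊗ sgl (ModuleCat.of A S) : Cx A).ExactAt i := by
      refine hkill S fun x hx m => ?_
      obtain ⟨m, hm⟩ := m
      refine Subtype.ext ?_
      change x • m = 0
      refine Submodule.smul_induction_on hm (fun r hr k _ => ?_) fun k l hk hl => ?_
      · rw [← mul_smul, mul_comm]
        exact hM _ (by rw [pow_succ]; exact Ideal.mul_mem_mul hr hx) k
      · rw [smul_add, hk, hl, add_zero]
    have h5 : (P ⊗ sgl (ModuleCat.of A (M ⧸ S)) : Cx A).ExactAt i := by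
      refine ih (M ⧸ S) fun x hx m => ?_
      obtain ⟨m, rfl⟩ := Submodule.mkQ_surjective S m
      rw [← _root_.map_smul, Submodule.mkQ_apply, Submodule.Quotient.mk_eq_zero]
      exact Submodule.smul_mem_smul hx Submodule.mem_top
    rw [exactAt_sgl_iff P hP] at h4 h5 ⊢
    have h6 := hd_obj₂ ((LTensorCx A P).map_distinguished T hT) i
      (by change Subsingleton (Dual.HD A ((LTensorCx A P).obj T.obj₁) i); rw [h1]; exact h4)
      (by change Subsingleton (Dual.HD A ((LTensorCx A P).obj T.obj₃) i); rw [h3]; exact h5)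
    change Subsingleton (Dual.HD A ((LTensorCx A P).obj T.obj₂) i) at h6
    rw [h2] at h6
    exact h6

include hφ in
/-- Tor amplitude modulo a nilpotent ideal. -/
theorem torAmp_of_nilpotent (hnil : IsNilpotent (RingHom.ker φ)) [HasLBaseChange φ] (K : Dual.D A) (a b : ℤ)
    (h : HasTorAmplitudeIn B a b ((LBaseChange φ).obj K)) : HasTorAmplitudeIn A a b K := by
  obtain ⟨P, hP, ⟨e⟩⟩ := LTen.exists_kproj K
  have h1 : HasTorAmplitudeIn B a b (toD ((ProjF.extCx φ).obj P)) :=
    torAmp_of_iso ((LBaseChange φ).mapIso e.symm ≪≫ LBC.lbcQIso φ P) h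
  have hPf := kfl_of_isKProjective P
  refine torAmp_of_iso e ((torAmp_iff_sgl P hPf a b).2 fun M i hi => ?_)
  obtain ⟨n, hn⟩ := hnil
  refine exactAt_of_pow φ hφ P hPf h1 i hi n M fun x hx m => ?_
  rw [hn] at hx
  rw [(Submodule.mem_bot A).1 hx, zero_smul]

end Nil

section TorDim

variable {A : Type u} [CommRing A]

open Groth.Agent.Flat2H.TorDim

lemma torAmp_of_flat (M : Type u) [AddCommGroup M] [Module A M] [Module.Flat A M] :
    HasTorAmplitudeIn A 0 0 (Dual.inD A M) := by
  refine ⟨sgl (ModuleCat.of A M), fun i hi => ?_, fun i => ?_, ⟨Iso.refl _⟩⟩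
  · exact HomologicalComplex.isZero_single_obj_X _ _ _ _ (by omega)
  · by_cases hi : i = 0
    · subst hi
      exact Module.Flat.of_linearEquiv
        (HomologicalComplex.singleObjXSelf (ComplexShape.up ℤ) 0 (ModuleCat.of A M)).toLinearEquiv
    · exact flatP_of_isZero _ (HomologicalComplex.isZero_single_obj_X _ _ _ _ hi)

lemma subsingleton_HD_inD (M : Type u) [AddCommGroup M] [Module A M] (i : ℤ) (hi : i ≠ 0) :
    Subsingleton (Dual.HD A (Dual.inD A M) i) := by
  have h : (sgl (ModuleCat.of A M)).ExactAt i :=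
    HomologicalComplex.ExactAt.of_isZero (HomologicalComplex.isZero_single_obj_X _ _ _ _ hi)
  exact (exactAt_iff_subsingleton_HD _ i).1 h

lemma flat_of_torAmp (M : Type u) [AddCommGroup M] [Module A M] {b : ℤ}
    (h : HasTorAmplitudeIn A 0 b (Dual.inD A M)) : Module.Flat A M := by
  obtain ⟨N, h1, h2, h3, h4, ⟨e⟩⟩ := exists_flatRes (ModuleCat.of A M)
  have h5 := flat_cok_of_torAmp N 0 h1 h3 (torAmp_of_iso e.symm h) (show (-1 : ℤ) + 1 = 0 by omega)
  have h6 : Module.Flat A (N.opcycles 0) := by
    obtain ⟨e1⟩ := nonempty_opcycles_equiv N (show (-1 : ℤ) + 1 = 0 by omega)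
    exact Module.Flat.of_linearEquiv e1
  have e2 : N.opcycles 0 ≅ ModuleCat.of A M :=
    (N.isoHomologyι 0 1 (by simp) ((h1 1 (by omega)).eq_of_tgt _ _)).symm ≪≫
      Flat2H.PCModule.homologyZeroIso N M e
  exact Module.Flat.of_linearEquiv e2.symm.toLinearEquiv

/-- Tor dimension of a module and tor amplitude of `M[0]`. -/
theorem hasTorDimLE_iff (d : ℕ) : ∀ (M : Type u) [AddCommGroup M] [Module A M],
    HasTorDimLE A d M ↔ HasTorAmplitudeIn A (-(d : ℤ)) 0 (Dual.inD A M) := by
  induction d with
  | zero =>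
    intro M _ _
    rw [hasTorDimLE_zero_iff]
    exact ⟨fun _ => torAmp_of_flat M, fun h => flat_of_torAmp M h⟩
  | succ d ih =>
    intro M _ _
    have hs := Finsupp.linearCombination_id_surjective A M
    rw [hasTorDimLE_succ_iff_ker _ hs, ih]
    generalize Finsupp.linearCombination A (id : M → M) = f at hs ⊢
    have hF : HasTorAmplitudeIn A 0 0 (Dual.inD A (M →₀ A)) := torAmp_of_flat _
    obtain ⟨T, hT, h1, h2, h3⟩ := PerfTri.exists_triangle (A := A) (M' := LinearMap.ker f) (M := M →₀ A)
      (M'' := M) (LinearMap.ker f).subtype f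
      (Submodule.injective_subtype _) (LinearMap.exact_subtype_ker_map f) hs
    constructor
    · intro h
      rw [← h3]
      refine torAmp_obj₃ hT ?_ ?_
      · rw [h2]
        exact torAmp_mono (by push_cast; omega) le_rfl hF
      · rw [h1]
        exact torAmp_mono (by push_cast; omega) (by omega) h
    · intro h
      refine torAmp_upper (b := 1) ?_ fun i hi => subsingleton_HD_inD _ i (by omega)
      rw [← h1]
      refine torAmp_obj₁ hT ?_ ?_
      · rw [h3]
        exact torAmp_mono (by push_cast; omega) (by omega) h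
      · rw [h2]
        exact torAmp_mono (by omega) (by omega) hF

end TorDim

end K227.TorNil
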